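import Mathlib
import Cfsg.Agent.Helper8.ZStarGen

set_option autoImplicit false

namespace Cfsg.Agent.Helper8

open Cfsg
open scoped Pointwise

/-- adjusting a conjugating element so that it centralizes a `Z*`-central subgroup of `S` -/
theorem fs_adjust {G : Type*} [Group G] [Finite G] (S : Sylow 2 G) (N : Subgroup G) [N.Normal]
    (hNodd : Odd (Nat.card N)) (Z : Subgroup G) (hZS : Z ≤ (S : Subgroup G))
    (hZN : ∀ z ∈ Z, ∀ h : G, h * z * h⁻¹ * z⁻¹ ∈ N)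
    (P : Subgroup G) (hPS : P ≤ (S : Subgroup G)) (g : G)
    (hgP : ∀ x ∈ P, g * x * g⁻¹ ∈ (S : Subgroup G)) :
    ∃ g₁ : G, (∀ x ∈ P, g₁ * x * g₁⁻¹ = g * x * g⁻¹) ∧ ∀ z ∈ Z, g₁ * z * g₁⁻¹ = z := by
  haveI : Fact (Nat.Prime 2) := ⟨Nat.prime_two⟩
  have h2S : ∀ t ∈ (S : Subgroup G), ∃ k : ℕ, t ^ 2 ^ k = 1 := by
    intro t ht
    obtain ⟨k, hk⟩ := S.isPGroup' ⟨t, ht⟩
    exact ⟨k, congrArg Subtype.val hk⟩
  have hZcS : ∀ z ∈ Z, ∀ s ∈ (S : Subgroup G), s * z = z * s := by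
    intro z hz s hs
    have h1 : s * z * s⁻¹ * z⁻¹ ∈ (S : Subgroup G) :=
      Subgroup.mul_mem _ (Subgroup.mul_mem _ (Subgroup.mul_mem _ hs (hZS hz))
        (Subgroup.inv_mem _ hs)) (Subgroup.inv_mem _ (hZS hz))
    have h2 := zg_two_odd N hNodd (h2S _ h1) (hZN z hz s)
    calc s * z = (s * z * s⁻¹ * z⁻¹) * z * s := by group
      _ = z * s := by rw [h2, one_mul]
  obtain ⟨L, hL⟩ : ∃ L : Subgroup G,
      L = Subgroup.centralizer {y : G | ∃ x ∈ P, y = g * x * g⁻¹} ⊓ (N ⊔ Z) := ⟨_, rfl⟩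
  have hLmem : ∀ l : G, l ∈ L ↔ (∀ x ∈ P, (g * x * g⁻¹) * l = l * (g * x * g⁻¹)) ∧ l ∈ N ⊔ Z := by
    intro l
    rw [hL, Subgroup.mem_inf, Subgroup.mem_centralizer_iff]
    constructor
    · rintro ⟨h1, h2⟩
      exact ⟨fun x hx => h1 _ ⟨x, hx, rfl⟩, h2⟩
    · rintro ⟨h1, h2⟩
      refine ⟨?_, h2⟩
      rintro y ⟨x, hx, rfl⟩
      exact h1 x hx
  have hZL : Z ≤ L := by
    intro z hz
    rw [hLmem]
    exact ⟨fun x hx => hZcS z hz _ (hgP x hx), (le_sup_right : Z ≤ N ⊔ Z) hz⟩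
  have hZ'L : ∀ z ∈ Z, g * z * g⁻¹ ∈ L := by
    intro z hz
    rw [hLmem]
    refine ⟨fun x hx => ?_, ?_⟩
    · have h1 := hZcS z hz x (hPS hx)
      calc g * x * g⁻¹ * (g * z * g⁻¹) = g * (x * z) * g⁻¹ := by group
        _ = g * (z * x) * g⁻¹ := by rw [h1]
        _ = g * z * g⁻¹ * (g * x * g⁻¹) := by group
    · have h1 : g * z * g⁻¹ = (g * z * g⁻¹ * z⁻¹) * z := by group
      rw [h1]
      exact Subgroup.mul_mem _ ((le_sup_left : N ≤ N ⊔ Z) (hZN z hz g))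
        ((le_sup_right : Z ≤ N ⊔ Z) hz)
  have hZp : IsPGroup 2 Z := S.isPGroup'.to_le hZS
  have hP1 : IsPGroup 2 (Z.subgroupOf L) := hZp.comap_subtype
  have hP2 : IsPGroup 2 ((Z.map (MulAut.conj g).toMonoidHom).subgroupOf L) :=
    (hZp.map _).comap_subtype
  obtain ⟨Q, hQ⟩ := hP1.exists_le_sylow
  obtain ⟨Q', hQ'⟩ := hP2.exists_le_sylow
  obtain ⟨l, hl⟩ := MulAction.exists_smul_eq ↥L Q' Q
  have hQZ : ∀ t : ↥L, t ∈ Q → (t : G) ∈ Z := by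
    intro t ht
    have h1 : (t : G) ∈ (N : Set G) * (Z : Set G) := by
      rw [← Subgroup.normal_mul]
      exact ((hLmem _).1 t.2).2
    obtain ⟨n₀, hn₀, z₀, hz₀, hnz⟩ := Set.mem_mul.1 h1
    have hz₀Q : (⟨z₀, hZL hz₀⟩ : L) ∈ Q := hQ (Subgroup.mem_subgroupOf.2 hz₀)
    have h2 : t * (⟨z₀, hZL hz₀⟩ : L)⁻¹ ∈ Q := Subgroup.mul_mem _ ht (Subgroup.inv_mem _ hz₀Q)
    obtain ⟨k, hk⟩ := Q.isPGroup' ⟨_, h2⟩
    have hk' : (t * (⟨z₀, hZL hz₀⟩ : L)⁻¹) ^ 2 ^ k = 1 := congrArg Subtype.val hk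
    have hk'' : ((t : G) * z₀⁻¹) ^ 2 ^ k = 1 := by
      have := congrArg Subtype.val hk'
      simpa using this
    have h3 : (t : G) * z₀⁻¹ = n₀ := by rw [← hnz]; group
    rw [h3] at hk''
    have h4 := zg_two_odd N hNodd ⟨k, hk''⟩ hn₀
    rw [← hnz, h4, one_mul]
    exact hz₀
  refine ⟨l * g, ?_, ?_⟩
  · intro x hx
    have h1 := ((hLmem _).1 l.2).1 x hx
    calc (l : G) * g * x * ((l : G) * g)⁻¹ = l * (g * x * g⁻¹) * (l : G)⁻¹ := by group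
      _ = (g * x * g⁻¹) * l * (l : G)⁻¹ := by rw [h1]
      _ = g * x * g⁻¹ := by group
  · intro z hz
    have hw : (⟨g * z * g⁻¹, hZ'L z hz⟩ : L) ∈ Q' := by
      apply hQ'
      rw [Subgroup.mem_subgroupOf]
      exact ⟨z, hz, rfl⟩
    have h1 : l * (⟨g * z * g⁻¹, hZ'L z hz⟩ : L) * l⁻¹ ∈ Q := by
      rw [← hl]
      apply (Cfsg.Agent.Helper2.mem_sylow_smul_iff l Q' _).2
      have h0 : l⁻¹ * (l * (⟨g * z * g⁻¹, hZ'L z hz⟩ : L) * l⁻¹) * l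
          = ⟨g * z * g⁻¹, hZ'L z hz⟩ := by group
      rw [h0]; exact hw
    have h2 : (l : G) * (g * z * g⁻¹) * (l : G)⁻¹ ∈ Z := hQZ _ h1
    have h3 : (l : G) * g * z * ((l : G) * g)⁻¹ = (l : G) * (g * z * g⁻¹) * (l : G)⁻¹ := by group
    rw [h3]
    have h4 : (l : G) * (g * z * g⁻¹) * (l : G)⁻¹ * z⁻¹ ∈ N := by
      rw [← h3]; exact hZN z hz _
    have h5 : (l : G) * (g * z * g⁻¹) * (l : G)⁻¹ * z⁻¹ ∈ (S : Subgroup G) :=
      Subgroup.mul_mem _ (hZS h2) (Subgroup.inv_mem _ (hZS hz))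
    have h6 := zg_two_odd N hNodd (h2S _ h5) h4
    exact mul_inv_eq_one.1 h6

end Cfsg.Agent.Helper8
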