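import Mathlib
import Cfsg.Agent.Helper8.ZStarGen
import Cfsg.Agent.Helper8.CharInv

set_option autoImplicit false

namespace Cfsg.Agent.Helper8

open Cfsg
open scoped Pointwise

/-- a finite group with an isolated involution `z` has a `z`-invariant Sylow `p`-subgroup -/
theorem isy_inv_sylow.{u} (K : Type u) [Group K] [Finite K] (z : K)
    (hz : Cfsg.IsIsolatedInvolution z) (p : ℕ) [Fact p.Prime] :
    ∃ R : Sylow p K, ∀ x ∈ (R : Subgroup K), z * x * z⁻¹ ∈ (R : Subgroup K) := by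
  obtain ⟨N, hN, hNodd, hcomm⟩ := zstar_main K z hz
  have hzz : z * z = 1 := Cfsg.Agent.Helper2.zstar_sq z hz.1
  have hzinv : z⁻¹ = z := inv_eq_of_mul_eq_one_right hzz
  by_cases hp2 : p = 2
  · subst hp2
    have hpz : IsPGroup 2 (Subgroup.zpowers z) := by
      apply IsPGroup.of_card (n := 1)
      rw [Nat.card_zpowers, hz.1, pow_one]
    obtain ⟨R, hR⟩ := hpz.exists_le_sylow
    have hzR : z ∈ (R : Subgroup K) := hR (Subgroup.mem_zpowers z)
    exact ⟨R, fun x hx => mul_mem (mul_mem hzR hx) (inv_mem hzR)⟩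
  · have hpodd : Odd p := (Fact.out : p.Prime).odd_of_ne_two hp2
    obtain ⟨P₁⟩ : Nonempty (Sylow p K) := inferInstance
    have hMmem : ∀ x : K, x ∈ N ⊔ (P₁ : Subgroup K) ↔ ∃ n ∈ N, ∃ y ∈ (P₁ : Subgroup K), n * y = x := by
      intro x
      rw [← SetLike.mem_coe, Subgroup.normal_mul, Set.mem_mul]
      rfl
    have hzM1 : ∀ x ∈ N ⊔ (P₁ : Subgroup K), z * x * z⁻¹ ∈ N ⊔ (P₁ : Subgroup K) := by
      intro x hx
      obtain ⟨n, hn, y, hy, rfl⟩ := (hMmem x).1 hx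
      have h1 : z * (n * y) * z⁻¹ = (z * n * z⁻¹) * (z * y * z⁻¹ * y⁻¹) * y := by group
      rw [h1]
      exact mul_mem (Subgroup.mem_sup_left (mul_mem (hN.conj_mem n hn z) (hcomm y)))
        (Subgroup.mem_sup_right hy)
    have hzM : z ∈ Subgroup.normalizer ((N ⊔ (P₁ : Subgroup K) : Subgroup K) : Set K) := by
      rw [Subgroup.mem_normalizer_iff]
      intro x
      refine ⟨hzM1 x, fun h => ?_⟩
      have h2 := hzM1 _ h
      have h3 : z * (z * x * z⁻¹) * z⁻¹ = x := by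
        rw [hzinv]
        calc z * (z * x * z) * z = (z * z) * x * (z * z) := by group
          _ = x := by rw [hzz]; group
      rwa [h3] at h2
    have hMcard : Odd (Nat.card ↥(N ⊔ (P₁ : Subgroup K))) := by
      have h1 : Nat.card ↥(N ⊔ (P₁ : Subgroup K)) =
          Nat.card N * N.relIndex (N ⊔ (P₁ : Subgroup K)) := by
        have h2 := Subgroup.card_mul_index (N.subgroupOf (N ⊔ (P₁ : Subgroup K)))
        rw [← h2]
        congr 1
        exact Nat.card_congr (Subgroup.subgroupOfEquivOfLe le_sup_left).toEquiv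
      rw [h1, Subgroup.relIndex_sup_left]
      obtain ⟨k, hk⟩ := (P₁.2).exists_card_eq
      have h3 : N.relIndex (P₁ : Subgroup K) ∣ p ^ k := hk ▸ Subgroup.relIndex_dvd_card _ _
      exact hNodd.mul (Odd.of_dvd_nat (hpodd.pow) h3)
    set M : Subgroup K := N ⊔ (P₁ : Subgroup K) with hM
    let φ : MulAut ↥M := ccNormEquiv M z hzM
    have hφ2 : φ * φ = 1 := by
      ext x
      show ((φ (φ x) : ↥M) : K) = (x : K)
      rw [ccNormEquiv_apply, ccNormEquiv_apply, hzinv]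
      calc z * (z * (x : K) * z) * z = (z * z) * x * (z * z) := by group
        _ = (x : K) := by rw [hzz]; group
    have hpg : IsPGroup 2 (Subgroup.zpowers φ) := by
      intro g
      refine ⟨1, ?_⟩
      obtain ⟨g, i, rfl⟩ := g
      ext1
      show (φ ^ i) ^ 2 ^ 1 = 1
      rw [pow_one, ← zpow_natCast, ← zpow_mul, mul_comm, zpow_mul, zpow_natCast, pow_two, hφ2,
        one_zpow]
    have hnd : ¬ 2 ∣ Nat.card (Sylow p ↥M) := by
      intro h
      have h1 : Nat.card (Sylow p ↥M) ∣ Nat.card ↥M :=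
        (Sylow.card_dvd_index (default : Sylow p ↥M)).trans (Subgroup.index_dvd_card _)
      exact (Nat.not_even_iff_odd.2 hMcard) (even_iff_two_dvd.2 (h.trans h1))
    obtain ⟨R, hR⟩ := IsPGroup.nonempty_fixed_point_of_prime_not_dvd_card hpg (Sylow p ↥M) hnd
    have hφR : φ • R = R := hR ⟨φ, Subgroup.mem_zpowers φ⟩
    have hφmem : ∀ x : ↥M, x ∈ (R : Subgroup ↥M) → φ x ∈ (R : Subgroup ↥M) := by
      intro x hx
      have h1 : φ • x ∈ φ • (R : Subgroup ↥M) := Subgroup.smul_mem_pointwise_smul x φ _ hx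
      rw [← Sylow.pointwise_smul_def, hφR] at h1
      exact h1
    have hP₁M : (P₁ : Subgroup K) ≤ M := le_sup_right
    obtain ⟨m, hm⟩ := MulAction.exists_smul_eq ↥M (P₁.subtype hP₁M) R
    have hRmem : ∀ x : ↥M, x ∈ (R : Subgroup ↥M) ↔ (m : K)⁻¹ * (x : K) * (m : K) ∈ (P₁ : Subgroup K) := by
      intro x
      rw [← hm]
      constructor
      · intro h
        have h1 := (Cfsg.Agent.Helper2.mem_sylow_smul_iff m (P₁.subtype hP₁M) x).1 h
        exact h1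
      · intro h
        refine (Cfsg.Agent.Helper2.mem_sylow_smul_iff m (P₁.subtype hP₁M) x).2 ?_
        exact h
    refine ⟨(m : K) • P₁, fun x hx => ?_⟩
    have hx1 := (Cfsg.Agent.Helper2.mem_sylow_smul_iff (m : K) P₁ x).1 hx
    have hxM : x ∈ M := by
      have h1 : x = (m : K) * ((m : K)⁻¹ * x * (m : K)) * (m : K)⁻¹ := by group
      rw [h1]
      exact mul_mem (mul_mem m.2 (hP₁M hx1)) (inv_mem m.2)
    have h2 : (⟨x, hxM⟩ : ↥M) ∈ (R : Subgroup ↥M) := (hRmem ⟨x, hxM⟩).2 hx1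
    have h3 := (hRmem _).1 (hφmem _ h2)
    rw [ccNormEquiv_apply] at h3
    exact (Cfsg.Agent.Helper2.mem_sylow_smul_iff (m : K) P₁ _).2 h3

/-- an involution mapping a subgroup into itself normalizes it -/
theorem isy_mem_normalizer {G : Type*} [Group G] (z : G) (hzz : z * z = 1) (H : Subgroup G)
    (h : ∀ x ∈ H, z * x * z⁻¹ ∈ H) : z ∈ Subgroup.normalizer (H : Set G) := by
  have hzinv : z⁻¹ = z := inv_eq_of_mul_eq_one_right hzz
  rw [Subgroup.mem_normalizer_iff]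
  intro x
  refine ⟨h x, fun hx => ?_⟩
  have h2 := h _ hx
  have h3 : z * (z * x * z⁻¹) * z⁻¹ = x := by
    rw [hzinv]
    calc z * (z * x * z) * z = (z * z) * x * (z * z) := by group
      _ = x := by rw [hzz]; group
  rwa [h3] at h2

/-- a maximal `z`-invariant `p`-subgroup is Sylow when `z` is an isolated involution -/
theorem isy_max_sylow.{u} {G : Type u} [Group G] [Finite G] (z : G)
    (hz : Cfsg.IsIsolatedInvolution z) {p : ℕ} [Fact p.Prime] (Q : Subgroup G)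
    (hQ : IsPGroup p Q) (hzQ : z ∈ Subgroup.normalizer (Q : Set G))
    (hmax : ∀ R : Subgroup G, IsPGroup p R → z ∈ Subgroup.normalizer (R : Set G) → Q ≤ R → R = Q) :
    ∃ P : Sylow p G, (P : Subgroup G) = Q := by
  have hzz : z * z = 1 := Cfsg.Agent.Helper2.zstar_sq z hz.1
  have hzinv : z⁻¹ = z := inv_eq_of_mul_eq_one_right hzz
  set K : Subgroup G := Subgroup.normalizer (Q : Set G) with hK
  have hziso : IsIsolatedInvolution (⟨z, hzQ⟩ : K) := zsl_isolated_subgroup z hz K hzQ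
  obtain ⟨R, hR⟩ := isy_inv_sylow ↥K ⟨z, hzQ⟩ hziso p
  have hQK : Q ≤ K := Subgroup.le_normalizer
  have hQR : ∀ q (hq : q ∈ Q), (⟨q, hQK hq⟩ : K) ∈ (R : Subgroup K) := by
    have hQp : IsPGroup p (Q.subgroupOf K) := hQ.comap_subtype
    obtain ⟨R₀, hR₀⟩ := hQp.exists_le_sylow
    obtain ⟨k, hk⟩ := MulAction.exists_smul_eq ↥K R₀ R
    intro q hq
    rw [← hk]
    refine (Cfsg.Agent.Helper2.mem_sylow_smul_iff k R₀ _).2 ?_
    apply hR₀
    rw [Subgroup.mem_subgroupOf]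
    show (k : G)⁻¹ * q * (k : G) ∈ Q
    have h1 := (Subgroup.mem_normalizer_iff.1 (inv_mem k.2) q).1 hq
    rwa [inv_inv] at h1
  have hRG : (R : Subgroup K).map K.subtype = Q := by
    apply hmax
    · exact R.2.map _
    · apply isy_mem_normalizer z hzz
      rintro x ⟨r, hr, rfl⟩
      exact ⟨_, hR r hr, rfl⟩
    · intro q hq
      exact ⟨⟨q, hQK hq⟩, hQR q hq, rfl⟩
  obtain ⟨P, hP⟩ := hQ.exists_le_sylow
  refine ⟨P, ?_⟩
  by_contra hne
  have hnil : Group.IsNilpotent ↥(P : Subgroup G) := P.2.isNilpotent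
  have hlt : Q.subgroupOf (P : Subgroup G) < ⊤ := by
    rw [lt_top_iff_ne_top, Ne, Subgroup.subgroupOf_eq_top]
    intro h
    exact hne (le_antisymm h hP)
  have hnc := Group.normalizerCondition_of_isNilpotent (G := ↥(P : Subgroup G)) _ hlt
  obtain ⟨x, hxn, hxQ⟩ := SetLike.exists_of_lt hnc
  have hxK : (x : G) ∈ K := by
    rw [hK, Subgroup.mem_normalizer_iff]
    intro q
    have key : ∀ q' : ↥(P : Subgroup G), (q' : G) ∈ Q ↔ (x : G) * q' * (x : G)⁻¹ ∈ Q :=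
      fun q' => (Subgroup.mem_normalizer_iff.1 hxn q')
    constructor
    · intro hq
      exact (key ⟨q, hP hq⟩).1 hq
    · intro hq
      have hqP : q ∈ (P : Subgroup G) := by
        have h1 : q = (x : G)⁻¹ * ((x : G) * q * (x : G)⁻¹) * (x : G) := by group
        rw [h1]
        exact mul_mem (mul_mem (inv_mem x.2) (hP hq)) x.2
      exact (key ⟨q, hqP⟩).2 hq
  have hT : IsPGroup p (((P : Subgroup G) ⊓ K).subgroupOf K) :=
    (P.2.to_le inf_le_left).comap_subtype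
  have hRT : (R : Subgroup K) ≤ ((P : Subgroup G) ⊓ K).subgroupOf K := by
    intro r hr
    rw [Subgroup.mem_subgroupOf]
    refine ⟨hP ?_, r.2⟩
    rw [← hRG]
    exact ⟨r, hr, rfl⟩
  have hTR := R.3 hT hRT
  have hxR : (⟨(x : G), hxK⟩ : K) ∈ (R : Subgroup K) := by
    rw [← hTR, Subgroup.mem_subgroupOf]
    exact ⟨x.2, hxK⟩
  apply hxQ
  rw [Subgroup.mem_subgroupOf, ← hRG]
  exact ⟨_, hxR, rfl⟩

/-- every `z`-invariant `p`-subgroup lies in a `z`-invariant Sylow `p`-subgroup -/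
theorem isy_exists_inv_sylow.{u} {G : Type u} [Group G] [Finite G] (z : G)
    (hz : Cfsg.IsIsolatedInvolution z) {p : ℕ} [Fact p.Prime] (R₀ : Subgroup G)
    (hR₀ : IsPGroup p R₀) (hzR₀ : z ∈ Subgroup.normalizer (R₀ : Set G)) :
    ∃ P : Sylow p G, R₀ ≤ (P : Subgroup G) ∧ z ∈ Subgroup.normalizer ((P : Subgroup G) : Set G) := by
  obtain ⟨Q, hQ⟩ := Set.Finite.exists_maximal
    (s := {R : Subgroup G | IsPGroup p R ∧ z ∈ Subgroup.normalizer (R : Set G) ∧ R₀ ≤ R})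
    (Set.toFinite _) ⟨R₀, hR₀, hzR₀, le_refl _⟩
  obtain ⟨⟨hQp, hQz, hQR⟩, hQmax⟩ := hQ
  obtain ⟨P, hP⟩ := isy_max_sylow z hz Q hQp hQz (fun R hRp hRz hQR' =>
    le_antisymm (hQmax ⟨hRp, hRz, hQR.trans hQR'⟩ hQR') hQR')
  refine ⟨P, hP ▸ hQR, hP ▸ hQz⟩

/-- two `z`-invariant Sylow `p`-subgroups are conjugate under the centralizer of `z` -/
theorem isy_conj_centralizer.{u} {G : Type u} [Group G] [Finite G] (z : G)
    (hz : Cfsg.IsIsolatedInvolution z) {p : ℕ} [Fact p.Prime] (P P' : Sylow p G)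
    (hzP : z ∈ Subgroup.normalizer ((P : Subgroup G) : Set G))
    (hzP' : z ∈ Subgroup.normalizer ((P' : Subgroup G) : Set G)) :
    ∃ c : G, c * z = z * c ∧ ∀ x : G, x ∈ (P' : Subgroup G) ↔ c⁻¹ * x * c ∈ (P : Subgroup G) := by
  obtain ⟨N, hN, hNodd, hcomm⟩ := zstar_main G z hz
  have hzz : z * z = 1 := Cfsg.Agent.Helper2.zstar_sq z hz.1
  have hzinv : z⁻¹ = z := inv_eq_of_mul_eq_one_right hzz
  obtain ⟨g, hg⟩ := MulAction.exists_smul_eq G P P'
  have hP'mem : ∀ x : G, x ∈ (P' : Subgroup G) ↔ g⁻¹ * x * g ∈ (P : Subgroup G) := by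
    intro x
    rw [← hg]
    exact Cfsg.Agent.Helper2.mem_sylow_smul_iff g P x
  have hb2 : orderOf (g⁻¹ * z * g) = 2 := by
    have h1 := (zsl_conj_isolated z hz g⁻¹).1
    rwa [inv_inv] at h1
  have hbN : g⁻¹ * z * g ∈ Subgroup.normalizer ((P : Subgroup G) : Set G) := by
    apply isy_mem_normalizer _ (Cfsg.Agent.Helper2.zstar_sq _ hb2)
    intro x hx
    have h1 : g * x * g⁻¹ ∈ (P' : Subgroup G) := by
      rw [hP'mem]
      have h2 : g⁻¹ * (g * x * g⁻¹) * g = x := by group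
      rwa [h2]
    have h3 := (Subgroup.mem_normalizer_iff.1 hzP' _).1 h1
    have h4 := (hP'mem _).1 h3
    have h5 : g⁻¹ * (z * (g * x * g⁻¹) * z⁻¹) * g = g⁻¹ * z * g * x * (g⁻¹ * z * g)⁻¹ := by group
    rwa [h5] at h4
  have hab : z * (g⁻¹ * z * g) ∈ N := by
    have h1 := hcomm g⁻¹
    rw [inv_inv, hzinv] at h1
    have h2 : z * (g⁻¹ * z * g) = z * g⁻¹ * z * g := by group
    rwa [h2]
  have hodd : Odd (orderOf (z * (g⁻¹ * z * g))) :=
    Odd.of_dvd_nat hNodd (Subgroup.orderOf_dvd_natCard N hab)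
  obtain ⟨c₀, hc₀, hc₀z⟩ := Cfsg.Agent.Helper2.zstar_Lb z (g⁻¹ * z * g) hz.1 hb2 hodd
  have hc₀N : c₀ ∈ Subgroup.normalizer ((P : Subgroup G) : Set G) :=
    (Subgroup.zpowers_le.2 (mul_mem hzP hbN)) hc₀
  refine ⟨g * c₀, ?_, fun x => ?_⟩
  · have h1 : g * c₀ * z * (g * c₀)⁻¹ = g * (c₀ * z * c₀⁻¹) * g⁻¹ := by group
    have h2 : g * c₀ * z * (g * c₀)⁻¹ = z := by
      rw [h1, hc₀z]; group
    calc g * c₀ * z = g * c₀ * z * (g * c₀)⁻¹ * (g * c₀) := by group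
      _ = z * (g * c₀) := by rw [h2]
  · rw [hP'mem]
    have h1 := Subgroup.mem_normalizer_iff.1 (inv_mem hc₀N) (g⁻¹ * x * g)
    rw [inv_inv] at h1
    have h2 : (g * c₀)⁻¹ * x * (g * c₀) = c₀⁻¹ * (g⁻¹ * x * g) * c₀ := by group
    rw [h2]
    exact h1

/-- part (1) of the statement on invariant Sylow subgroups: `P ∩ C_G(z)` is Sylow in `C_G(z)` -/
theorem isy_sylow_centralizer.{u} {G : Type u} [Group G] [Finite G] (z : G)
    (hz : Cfsg.IsIsolatedInvolution z) {p : ℕ} [Fact p.Prime] (P : Sylow p G)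
    (hzP : z ∈ Subgroup.normalizer ((P : Subgroup G) : Set G)) :
    ¬ p ∣ ((P : Subgroup G) ⊓ Subgroup.centralizer ({z} : Set G)).relIndex
      (Subgroup.centralizer ({z} : Set G)) := by
  have hzz : z * z = 1 := Cfsg.Agent.Helper2.zstar_sq z hz.1
  set C : Subgroup G := Subgroup.centralizer ({z} : Set G) with hC
  have hCmem : ∀ c : G, c ∈ C ↔ c * z = z * c := fun c => Subgroup.mem_centralizer_singleton_iff
  obtain ⟨R₀⟩ : Nonempty (Sylow p ↥C) := inferInstance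
  have hR₀z : z ∈ Subgroup.normalizer (((R₀ : Subgroup ↥C).map C.subtype : Subgroup G) : Set G) := by
    apply isy_mem_normalizer z hzz
    rintro x ⟨r, hr, rfl⟩
    have h1 : z * (C.subtype r) * z⁻¹ = C.subtype r := by
      have h2 : (r : G) * z = z * (r : G) := (hCmem _).1 r.2
      show z * (r : G) * z⁻¹ = (r : G)
      rw [← h2]; group
    rw [h1]
    exact ⟨r, hr, rfl⟩
  obtain ⟨P', hP'R, hzP'⟩ := isy_exists_inv_sylow z hz _ (R₀.2.map C.subtype) hR₀z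
  obtain ⟨c, hcz, hc⟩ := isy_conj_centralizer z hz P P' hzP hzP'
  have hcC : c ∈ C := (hCmem c).2 hcz
  have hT : IsPGroup p (((P : Subgroup G) ⊓ C).subgroupOf C) :=
    (P.2.to_le inf_le_left).comap_subtype
  have hle : (((⟨c, hcC⟩ : ↥C)⁻¹ • R₀ : Sylow p ↥C) : Subgroup ↥C) ≤
      ((P : Subgroup G) ⊓ C).subgroupOf C := by
    intro x hx
    have h1 := (Cfsg.Agent.Helper2.mem_sylow_smul_iff (⟨c, hcC⟩ : ↥C)⁻¹ R₀ x).1 hx
    rw [inv_inv] at h1
    rw [Subgroup.mem_subgroupOf]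
    refine ⟨?_, x.2⟩
    have h2 : c * (x : G) * c⁻¹ ∈ (P' : Subgroup G) := hP'R ⟨_, h1, rfl⟩
    have h3 := (hc _).1 h2
    have h4 : c⁻¹ * (c * (x : G) * c⁻¹) * c = (x : G) := by group
    rwa [h4] at h3
  have hEq := ((⟨c, hcC⟩ : ↥C)⁻¹ • R₀ : Sylow p ↥C).3 hT hle
  show ¬ p ∣ (((P : Subgroup G) ⊓ C).subgroupOf C).index
  rw [hEq]
  exact Sylow.not_dvd_index _

/-- part (2): the index of `C_P(z)` in `P` is the number of elements of `P` inverted by `z` -/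
theorem isy_count {G : Type*} [Group G] [Finite G] (z : G) (hz2 : orderOf z = 2) {p : ℕ}
    [Fact p.Prime] (hp : p ≠ 2) (P : Sylow p G)
    (hzP : z ∈ Subgroup.normalizer ((P : Subgroup G) : Set G)) :
    ((P : Subgroup G) ⊓ Subgroup.centralizer ({z} : Set G)).relIndex (P : Subgroup G) =
      Nat.card {x : G // x ∈ P ∧ z * x * z⁻¹ = x⁻¹} := by
  have hzz : z * z = 1 := Cfsg.Agent.Helper2.zstar_sq z hz2
  have hzinv : z⁻¹ = z := inv_eq_of_mul_eq_one_right hzz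
  have hpodd : Odd p := (Fact.out : p.Prime).odd_of_ne_two hp
  set C : Subgroup G := Subgroup.centralizer ({z} : Set G) with hC
  have hCmem : ∀ c : G, c ∈ C ↔ c * z = z * c := fun c => Subgroup.mem_centralizer_singleton_iff
  have hzP' : ∀ x ∈ (P : Subgroup G), z * x * z⁻¹ ∈ (P : Subgroup G) :=
    fun x hx => (Subgroup.mem_normalizer_iff.1 hzP x).1 hx
  have hf1 : ∀ x : ↥(P : Subgroup G), (x : G) * z * (x : G)⁻¹ * z⁻¹ ∈ P ∧
      z * ((x : G) * z * (x : G)⁻¹ * z⁻¹) * z⁻¹ = ((x : G) * z * (x : G)⁻¹ * z⁻¹)⁻¹ := by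
    intro x
    constructor
    · have h1 : (x : G) * z * (x : G)⁻¹ * z⁻¹ = (x : G) * (z * (x : G)⁻¹ * z⁻¹) := by group
      rw [h1]
      exact mul_mem x.2 (hzP' _ (inv_mem x.2))
    · rw [hzinv]
      have h1 : ((x : G) * z * (x : G)⁻¹ * z)⁻¹ = z⁻¹ * (x : G) * z⁻¹ * (x : G)⁻¹ := by group
      rw [h1, hzinv]
      calc z * ((x : G) * z * (x : G)⁻¹ * z) * z = z * (x : G) * z * (x : G)⁻¹ * (z * z) := by group
        _ = z * (x : G) * z * (x : G)⁻¹ := by rw [hzz, mul_one]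
  let f : ↥(P : Subgroup G) → {x : G // x ∈ P ∧ z * x * z⁻¹ = x⁻¹} := fun x =>
    ⟨(x : G) * z * (x : G)⁻¹ * z⁻¹, hf1 x⟩
  have hfwd : ∀ a b : ↥(P : Subgroup G),
      a⁻¹ * b ∈ ((P : Subgroup G) ⊓ C).subgroupOf (P : Subgroup G) → f a = f b := by
    intro a b hab
    rw [Subgroup.mem_subgroupOf] at hab
    have h1 : (a : G)⁻¹ * (b : G) * z = z * ((a : G)⁻¹ * (b : G)) := (hCmem _).1 hab.2
    apply Subtype.ext
    show (a : G) * z * (a : G)⁻¹ * z⁻¹ = (b : G) * z * (b : G)⁻¹ * z⁻¹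
    have h2 : (b : G) * z * (b : G)⁻¹ = (a : G) * ((a : G)⁻¹ * (b : G) * z) * (b : G)⁻¹ := by group
    rw [h2, h1]; group
  have hfinj : ∀ a b : ↥(P : Subgroup G), f a = f b →
      a⁻¹ * b ∈ ((P : Subgroup G) ⊓ C).subgroupOf (P : Subgroup G) := by
    intro a b hab
    have h1 : (a : G) * z * (a : G)⁻¹ * z⁻¹ = (b : G) * z * (b : G)⁻¹ * z⁻¹ :=
      congrArg Subtype.val hab
    have h2 : (a : G) * z * (a : G)⁻¹ = (b : G) * z * (b : G)⁻¹ := mul_right_cancel h1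
    rw [Subgroup.mem_subgroupOf]
    refine Subgroup.mem_inf.2 ⟨(a⁻¹ * b).2, (hCmem _).2 ?_⟩
    show (a : G)⁻¹ * (b : G) * z = z * ((a : G)⁻¹ * (b : G))
    calc (a : G)⁻¹ * (b : G) * z = (a : G)⁻¹ * ((b : G) * z * (b : G)⁻¹) * (b : G) := by group
      _ = (a : G)⁻¹ * ((a : G) * z * (a : G)⁻¹) * (b : G) := by rw [h2]
      _ = z * ((a : G)⁻¹ * (b : G)) := by group
  let F : ↥(P : Subgroup G) ⧸ ((P : Subgroup G) ⊓ C).subgroupOf (P : Subgroup G) →
      {x : G // x ∈ P ∧ z * x * z⁻¹ = x⁻¹} := fun q =>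
    Quotient.liftOn' q f (fun a b hab => hfwd a b (QuotientGroup.leftRel_apply.1 hab))
  have hFinj : Function.Injective F := by
    intro q₁ q₂
    refine Quotient.inductionOn₂' q₁ q₂ (fun a b h => ?_)
    exact QuotientGroup.eq.2 (hfinj a b h)
  have hFsurj : Function.Surjective F := by
    rintro ⟨w, hwP, hw⟩
    have hwo : Odd (orderOf w) := by
      obtain ⟨k, hk⟩ := (P.2).exists_card_eq
      have h1 : orderOf w ∣ p ^ k := hk ▸ Subgroup.orderOf_dvd_natCard _ hwP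
      exact Odd.of_dvd_nat hpodd.pow h1
    obtain ⟨j, hj⟩ := hwo
    have hvP : w ^ (j + 1) ∈ (P : Subgroup G) := pow_mem hwP _
    have hvv : w ^ (j + 1) * w ^ (j + 1) = w := by
      rw [← pow_add]
      have h1 : j + 1 + (j + 1) = orderOf w + 1 := by omega
      rw [h1, pow_succ, pow_orderOf_eq_one, one_mul]
    have hzv : z * (w ^ (j + 1))⁻¹ * z⁻¹ = w ^ (j + 1) := by
      have h1 : z * (w ^ (j + 1))⁻¹ * z⁻¹ = (z * w * z⁻¹)⁻¹ ^ (j + 1) := by
        rw [inv_pow, conj_pow]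
        group
      rw [h1, hw, inv_inv]
    refine ⟨QuotientGroup.mk ⟨w ^ (j + 1), hvP⟩, Subtype.ext ?_⟩
    show w ^ (j + 1) * z * (w ^ (j + 1))⁻¹ * z⁻¹ = w
    have h2 : w ^ (j + 1) * z * (w ^ (j + 1))⁻¹ * z⁻¹ =
        w ^ (j + 1) * (z * (w ^ (j + 1))⁻¹ * z⁻¹) := by group
    rw [h2, hzv, hvv]
  show (((P : Subgroup G) ⊓ C).subgroupOf (P : Subgroup G)).index = _
  rw [Subgroup.index]
  exact Nat.card_congr (Equiv.ofBijective F ⟨hFinj, hFsurj⟩)

end Cfsg.Agent.Helper8
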