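import Mathlib

set_option autoImplicit false

open Matrix

namespace Cfsg.Agent.Helper8

-- rank of a block diagonal matrix
theorem jb_rank_fromBlocks {F : Type*} [Field F] {m n : Type*} [Fintype m] [Fintype n]
    [DecidableEq m] [DecidableEq n] (X : Matrix m m F) (Y : Matrix n n F) :
    (Matrix.fromBlocks X 0 0 Y).rank = X.rank + Y.rank := by
  let T : (LinearMap.range X.mulVecLin × LinearMap.range Y.mulVecLin) →ₗ[F] (m ⊕ n → F) :=
    (LinearEquiv.sumArrowLequivProdArrow m n F F).symm.toLinearMap ∘ₗ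
      ((LinearMap.range X.mulVecLin).subtype.prodMap (LinearMap.range Y.mulVecLin).subtype)
  let U : (m ⊕ n → F) →ₗ[F] (LinearMap.range X.mulVecLin × LinearMap.range Y.mulVecLin) :=
    (X.mulVecLin.rangeRestrict.prodMap Y.mulVecLin.rangeRestrict) ∘ₗ
      (LinearEquiv.sumArrowLequivProdArrow m n F F).toLinearMap
  have hTU : (Matrix.fromBlocks X 0 0 Y).mulVecLin = T ∘ₗ U := by
    refine LinearMap.ext fun v => ?_
    rw [Matrix.mulVecLin_apply, Matrix.fromBlocks_mulVec]
    funext i
    rcases i with i | i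
    · simp [T, U]
      rfl
    · simp [T, U]
      rfl
  have hT : Function.Injective T := by
    intro p q hpq
    have h1 := (LinearEquiv.sumArrowLequivProdArrow m n F F).symm.injective hpq
    simp only [LinearMap.prodMap_apply, Prod.mk.injEq] at h1
    exact Prod.ext (Subtype.ext h1.1) (Subtype.ext h1.2)
  have hU : Function.Surjective U := by
    rintro ⟨⟨a, ha⟩, ⟨b, hb⟩⟩
    obtain ⟨x, rfl⟩ := ha
    obtain ⟨y, rfl⟩ := hb
    refine ⟨(LinearEquiv.sumArrowLequivProdArrow m n F F).symm (x, y), ?_⟩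
    simp [U]
    exact ⟨rfl, rfl⟩
  unfold Matrix.rank
  rw [hTU, LinearMap.range_comp_of_range_eq_top T (LinearMap.range_eq_top.2 hU),
    LinearMap.finrank_range_of_inj hT, Module.finrank_prod]

theorem jb_combine {F : Type*} [Field F] {κ₁ κ₂ : Type} [Fintype κ₁] [DecidableEq κ₁]
    [Fintype κ₂] [DecidableEq κ₂]
    (A₁ M₁ : Matrix κ₁ κ₁ F) (A₂ M₂ : Matrix κ₂ κ₂ F)
    (h1s : M₁ᵀ = M₁) (h1d : M₁.det ≠ 0) (h1i : A₁ᵀ * M₁ * A₁ = M₁)
    (h2s : M₂ᵀ = M₂) (h2d : M₂.det ≠ 0) (h2i : A₂ᵀ * M₂ * A₂ = M₂) :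
    (fromBlocks M₁ 0 0 M₂)ᵀ = fromBlocks M₁ 0 0 M₂ ∧ (fromBlocks M₁ 0 0 M₂).det ≠ 0 ∧
    (fromBlocks A₁ 0 0 A₂)ᵀ * fromBlocks M₁ 0 0 M₂ * fromBlocks A₁ 0 0 A₂
      = fromBlocks M₁ 0 0 M₂ ∧
    ∀ k, ((fromBlocks A₁ 0 0 A₂ - 1) ^ k).rank
      = ((A₁ - 1) ^ k).rank + ((A₂ - 1) ^ k).rank := by
  refine ⟨?_, ?_, ?_, ?_⟩
  · rw [Matrix.fromBlocks_transpose, h1s, h2s]; simp
  · rw [Matrix.det_fromBlocks_zero₂₁]; exact mul_ne_zero h1d h2d
  · rw [Matrix.fromBlocks_transpose, Matrix.fromBlocks_multiply, Matrix.fromBlocks_multiply]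
    simp [h1i, h2i]
  · intro k
    have e : (fromBlocks A₁ 0 0 A₂ - 1 : Matrix (κ₁ ⊕ κ₂) (κ₁ ⊕ κ₂) F)
        = fromBlocks (A₁ - 1) 0 0 (A₂ - 1) := by
      ext i j
      rcases i with i | i <;> rcases j with j | j <;> simp [Matrix.one_apply]
    rw [e, Matrix.fromBlocks_diagonal_pow, jb_rank_fromBlocks]

theorem exists_of_blocks {F : Type*} [Field F] (s : Multiset ℕ)
    (hpar : ∀ j, Even j → Even (s.count j))
    (hodd : ∀ d, Odd d → ∃ A M : Matrix (Fin d) (Fin d) F, Mᵀ = M ∧ M.det ≠ 0 ∧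
      Aᵀ * M * A = M ∧ ∀ k, ((A - 1) ^ k).rank = d - k)
    (hpair : ∀ d, ∃ A M : Matrix (Fin d ⊕ Fin d) (Fin d ⊕ Fin d) F, Mᵀ = M ∧ M.det ≠ 0 ∧
      Aᵀ * M * A = M ∧ ∀ k, ((A - 1) ^ k).rank = (d - k) + (d - k)) :
    ∃ (κ : Type) (_ : Fintype κ) (_ : DecidableEq κ) (A M : Matrix κ κ F),
      Mᵀ = M ∧ M.det ≠ 0 ∧ Aᵀ * M * A = M ∧ Fintype.card κ = s.sum ∧
      ∀ k, ((A - 1) ^ k).rank = (s.map (fun a => a - k)).sum := by
  suffices H : ∀ (N : ℕ) (s : Multiset ℕ), Multiset.card s = N →
      (∀ j, Even j → Even (s.count j)) →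
      ∃ (κ : Type) (_ : Fintype κ) (_ : DecidableEq κ) (A M : Matrix κ κ F),
        Mᵀ = M ∧ M.det ≠ 0 ∧ Aᵀ * M * A = M ∧ Fintype.card κ = s.sum ∧
        ∀ k, ((A - 1) ^ k).rank = (s.map (fun a => a - k)).sum from H _ s rfl hpar
  intro N
  induction N using Nat.strong_induction_on with
  | _ N ih =>
    intro s hcard hpar
    by_cases hs : s = 0
    · subst hs
      refine ⟨Fin 0, inferInstance, inferInstance, 0, 0, Subsingleton.elim _ _, ?_,
        Subsingleton.elim _ _, by simp, ?_⟩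
      · rw [Matrix.det_isEmpty]; exact one_ne_zero
      · intro k
        have h := Matrix.rank_le_card_width (((0 : Matrix (Fin 0) (Fin 0) F) - 1) ^ k)
        rw [Fintype.card_fin] at h
        rw [Multiset.map_zero, Multiset.sum_zero]
        exact Nat.le_zero.1 h
    · obtain ⟨a, ha⟩ := Multiset.exists_mem_of_ne_zero hs
      have hpos : 0 < Multiset.card s := Multiset.card_pos_iff_exists_mem.2 ⟨a, ha⟩
      rcases Nat.even_or_odd a with hae | hao
      · -- even block: take two copies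
        have hc1 : 1 ≤ s.count a := Multiset.count_pos.2 ha
        have hce : Even (s.count a) := hpar a hae
        have hc2 : 2 ≤ s.count a := by
          obtain ⟨c, hc⟩ := hce
          omega
        have ha1 : a ∈ s.erase a := by
          apply Multiset.count_pos.1
          rw [Multiset.count_erase_self]; omega
        have hcard' : Multiset.card ((s.erase a).erase a) < N := by
          rw [Multiset.card_erase_of_mem ha1, Multiset.card_erase_of_mem ha,
            Nat.pred_eq_sub_one, Nat.pred_eq_sub_one]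
          omega
        have hpar' : ∀ j, Even j → Even (((s.erase a).erase a).count j) := by
          intro j hj
          by_cases hja : j = a
          · subst hja
            rw [Multiset.count_erase_self, Multiset.count_erase_self]
            obtain ⟨c, hc⟩ := hce
            exact ⟨c - 1, by omega⟩
          · rw [Multiset.count_erase_of_ne hja, Multiset.count_erase_of_ne hja]
            exact hpar j hj
        obtain ⟨κ', iF, iD, A', M', hs', hd', hi', hc', hr'⟩ := ih _ hcard' _ rfl hpar'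
        obtain ⟨A₂, M₂, h2s, h2d, h2i, h2r⟩ := hpair a
        obtain ⟨c1, c2, c3, c4⟩ := jb_combine A₂ M₂ A' M' h2s h2d h2i hs' hd' hi'
        have hsum : a + (a + ((s.erase a).erase a).sum) = s.sum := by
          rw [Multiset.sum_erase ha1, Multiset.sum_erase ha]
        refine ⟨(Fin a ⊕ Fin a) ⊕ κ', inferInstance, inferInstance,
          fromBlocks A₂ 0 0 A', fromBlocks M₂ 0 0 M', c1, c2, c3, ?_, ?_⟩
        · rw [Fintype.card_sum, Fintype.card_sum, Fintype.card_fin, hc', ← hsum]
          omega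
        · intro k
          rw [c4 k, h2r k, hr' k]
          conv_rhs => rw [← Multiset.cons_erase ha, ← Multiset.cons_erase ha1]
          rw [Multiset.map_cons, Multiset.map_cons, Multiset.sum_cons, Multiset.sum_cons]
          omega
      · -- odd block
        have hcard' : Multiset.card (s.erase a) < N := by
          rw [Multiset.card_erase_of_mem ha, Nat.pred_eq_sub_one]
          omega
        have hpar' : ∀ j, Even j → Even ((s.erase a).count j) := by
          intro j hj
          have hja : j ≠ a := by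
            rintro rfl
            exact (Nat.not_even_iff_odd.2 hao) hj
          rw [Multiset.count_erase_of_ne hja]
          exact hpar j hj
        obtain ⟨κ', iF, iD, A', M', hs', hd', hi', hc', hr'⟩ := ih _ hcard' _ rfl hpar'
        obtain ⟨A₁, M₁, h1s, h1d, h1i, h1r⟩ := hodd a hao
        obtain ⟨c1, c2, c3, c4⟩ := jb_combine A₁ M₁ A' M' h1s h1d h1i hs' hd' hi'
        refine ⟨Fin a ⊕ κ', inferInstance, inferInstance,
          fromBlocks A₁ 0 0 A', fromBlocks M₁ 0 0 M', c1, c2, c3, ?_, ?_⟩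
        · rw [Fintype.card_sum, Fintype.card_fin, hc', Multiset.sum_erase ha]
        · intro k
          rw [c4 k, h1r k, hr' k]
          conv_rhs => rw [← Multiset.cons_erase ha]
          rw [Multiset.map_cons, Multiset.sum_cons]

end Cfsg.Agent.Helper8
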