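import Mathlib

set_option autoImplicit false

open Matrix

namespace Cfsg.Agent.Helper8

-- Dye's lemma: over a finite field of characteristic 2 every symplectic transformation
-- preserves some quadratic form whose polar form is the symplectic form.
theorem dye_quadratic {F : Type*} [Field F] [Fintype F] [CharP F 2] {m : ℕ}
    (A : Matrix (Fin m ⊕ Fin m) (Fin m ⊕ Fin m) F)
    (hA : Aᵀ * Matrix.J (Fin m) F * A = Matrix.J (Fin m) F) :
    ∃ Q : QuadraticForm F (Fin m ⊕ Fin m → F),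
      (∀ v w, QuadraticMap.polar Q v w = v ⬝ᵥ (Matrix.J (Fin m) F) *ᵥ w) ∧
      ∀ v, Q (A *ᵥ v) = Q v := by
  classical
  set U : Matrix (Fin m ⊕ Fin m) (Fin m ⊕ Fin m) F := fromBlocks 0 1 0 0 with hU
  have hUJ : U + Uᵀ = Matrix.J (Fin m) F := by
    ext i j
    rcases i with i | i <;> rcases j with j | j <;>
      simp [hU, Matrix.J, Matrix.one_apply, CharTwo.neg_eq, eq_comm]
  have hq0 : ∀ v w : Fin m ⊕ Fin m → F,
      (v + w) ⬝ᵥ U *ᵥ (v + w)
        = v ⬝ᵥ U *ᵥ v + w ⬝ᵥ U *ᵥ w + v ⬝ᵥ (Matrix.J (Fin m) F) *ᵥ w := by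
    intro v w
    have h1 : v ⬝ᵥ Uᵀ *ᵥ w = w ⬝ᵥ U *ᵥ v := by
      rw [Matrix.mulVec_transpose, Matrix.dotProduct_mulVec w U v, dotProduct_comm]
    rw [← hUJ]
    simp only [Matrix.add_mulVec, Matrix.mulVec_add, add_dotProduct, dotProduct_add]
    rw [h1]; ring
  have hJ : ∀ v w : Fin m ⊕ Fin m → F,
      (A *ᵥ v) ⬝ᵥ (Matrix.J (Fin m) F) *ᵥ (A *ᵥ w) = v ⬝ᵥ (Matrix.J (Fin m) F) *ᵥ w := by
    intro v w
    conv_rhs => rw [← hA]
    rw [← Matrix.mulVec_mulVec, ← Matrix.mulVec_mulVec,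
      Matrix.dotProduct_mulVec v Aᵀ, Matrix.vecMul_transpose]
  set f : (Fin m ⊕ Fin m → F) → F :=
    fun v => (A *ᵥ v) ⬝ᵥ U *ᵥ (A *ᵥ v) - v ⬝ᵥ U *ᵥ v with hf
  have hfadd : ∀ v w, f (v + w) = f v + f w := by
    intro v w
    simp only [hf]
    rw [Matrix.mulVec_add, hq0 (A *ᵥ v) (A *ᵥ w), hq0 v w, hJ v w]
    ring
  have hfsmul : ∀ (c : F) v, f (c • v) = c * c * f v := by
    intro c v
    simp only [hf, Matrix.mulVec_smul, smul_dotProduct, dotProduct_smul, smul_eq_mul]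
    ring
  have hfker : ∀ v, A *ᵥ v = v → f v = 0 := by
    intro v hv
    simp only [hf]
    rw [hv, sub_self]
  let φ := (frobeniusEquiv F 2).symm
  have hφ : ∀ c : F, φ c * φ c = c := by
    intro c
    have h := frobeniusEquiv_symm_pow_p F 2 c
    rw [pow_two] at h
    exact h
  let ℓ : (Fin m ⊕ Fin m → F) →ₗ[F] F :=
    { toFun := fun v => φ (f v)
      map_add' := fun v w => by rw [hfadd, map_add]
      map_smul' := fun c v => by
        simp only [RingHom.id_apply, smul_eq_mul]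
        rw [hfsmul, map_mul, map_mul]
        have h := frobeniusEquiv_symm_pow F 2 c
        rw [pow_two, map_mul] at h
        rw [h] }
  have hℓ : ∀ v, ℓ v * ℓ v = f v := fun v => hφ (f v)
  let T : (Fin m ⊕ Fin m → F) →ₗ[F] (Fin m ⊕ Fin m → F) := A.mulVecLin - LinearMap.id
  have hT : ∀ v, T v = A *ᵥ v - v := fun v => rfl
  have hmem : ℓ ∈ (LinearMap.ker T).dualAnnihilator := by
    rw [Submodule.mem_dualAnnihilator]
    intro w hw
    rw [LinearMap.mem_ker, hT, sub_eq_zero] at hw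
    show φ (f w) = 0
    rw [hfker w hw, map_zero]
  rw [← LinearMap.range_dualMap_eq_dualAnnihilator_ker] at hmem
  obtain ⟨lam, hlam⟩ := hmem
  have hlam' : ∀ v, lam (A *ᵥ v) = ℓ v + lam v := by
    intro v
    have h := congrArg (fun g : Module.Dual F (Fin m ⊕ Fin m → F) => g v) hlam
    simp only [LinearMap.dualMap_apply] at h
    rw [hT, map_sub] at h
    rw [← h]; ring
  set Q : QuadraticForm F (Fin m ⊕ Fin m → F) :=
    LinearMap.BilinMap.toQuadraticMap (Matrix.toLinearMap₂' F U)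
      + QuadraticMap.linMulLin lam lam with hQdef
  have hQ : ∀ v, Q v = v ⬝ᵥ U *ᵥ v + lam v * lam v := by
    intro v
    simp only [hQdef, _root_.add_apply, LinearMap.BilinMap.toQuadraticMap_apply,
      Matrix.toLinearMap₂'_apply', QuadraticMap.linMulLin_apply]
  refine ⟨Q, ?_, ?_⟩
  · intro v w
    rw [QuadraticMap.polar, hQ, hQ, hQ, hq0 v w, map_add]
    have h2 : lam v * lam w + lam v * lam w = 0 := CharTwo.add_self_eq_zero _
    linear_combination h2
  · intro v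
    rw [hQ, hQ, hlam' v]
    have h1 : (A *ᵥ v) ⬝ᵥ U *ᵥ (A *ᵥ v) = f v + v ⬝ᵥ U *ᵥ v := by
      simp only [hf]; ring
    have h2 : f v + f v = 0 := CharTwo.add_self_eq_zero _
    have h3 : ℓ v * lam v + ℓ v * lam v = 0 := CharTwo.add_self_eq_zero _
    rw [h1]
    linear_combination hℓ v + h2 + h3

end Cfsg.Agent.Helper8
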