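import Mathlib
import Cfsg.Agent.Helper11.JordOrth
import Cfsg.Agent.Helper8.JordBlocks

set_option autoImplicit false

open Matrix

namespace Cfsg.Agent.Helper8

theorem pair_block_form {F : Type*} [Field F] (d : ℕ) :
    ∃ A M : Matrix (Fin d ⊕ Fin d) (Fin d ⊕ Fin d) F, Mᵀ = M ∧ M.det ≠ 0 ∧
      Aᵀ * M * A = M ∧ ∀ k, ((A - 1) ^ k).rank = (d - k) + (d - k) := by
  classical
  obtain ⟨N, hN⟩ : ∃ N : Matrix (Fin d) (Fin d) F, N = Cfsg.Agent.Helper11.joS F d 1 :=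
    ⟨_, rfl⟩
  have hNpow : ∀ k, N ^ k = Cfsg.Agent.Helper11.joS F d k := by
    intro k; rw [hN]; exact Cfsg.Agent.Helper11.joS_pow d k
  have hNrank : ∀ k, (N ^ k).rank = d - k := by
    intro k; rw [hNpow]; exact Cfsg.Agent.Helper11.joS_rank d k
  have hNnil : IsNilpotent N :=
    ⟨d, by rw [hNpow]; exact Cfsg.Agent.Helper11.joS_eq_zero d d le_rfl⟩
  obtain ⟨J, hJ⟩ : ∃ J : Matrix (Fin d) (Fin d) F, J = 1 + N := ⟨_, rfl⟩
  have hJunit : IsUnit J := by rw [hJ]; exact hNnil.isUnit_one_add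
  have hJdet : IsUnit J.det := (Matrix.isUnit_iff_isUnit_det J).1 hJunit
  have hJ1 : J - 1 = N := by rw [hJ]; simp
  have hinv1 : J⁻¹ * J = 1 := Matrix.nonsing_inv_mul J hJdet
  have hinv2 : J * J⁻¹ = 1 := Matrix.mul_nonsing_inv J hJdet
  refine ⟨fromBlocks J 0 0 (J⁻¹)ᵀ, fromBlocks 0 1 1 0, ?_, ?_, ?_, ?_⟩
  · rw [Matrix.fromBlocks_transpose]; simp
  · have hsq : (fromBlocks 0 1 1 0 : Matrix (Fin d ⊕ Fin d) (Fin d ⊕ Fin d) F)
        * fromBlocks 0 1 1 0 = 1 := by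
      rw [Matrix.fromBlocks_multiply]; simp [Matrix.fromBlocks_one]
    intro h0
    have h1 := congrArg Matrix.det hsq
    rw [Matrix.det_mul, h0, Matrix.det_one] at h1
    simp at h1
  · rw [Matrix.fromBlocks_transpose, Matrix.fromBlocks_multiply, Matrix.fromBlocks_multiply]
    simp only [Matrix.transpose_zero, Matrix.transpose_transpose, Matrix.mul_zero,
      Matrix.zero_mul, Matrix.mul_one, zero_add, add_zero]
    rw [← Matrix.transpose_mul, hinv1, Matrix.transpose_one]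
  · intro k
    have e : (fromBlocks J 0 0 (J⁻¹)ᵀ - 1 : Matrix (Fin d ⊕ Fin d) (Fin d ⊕ Fin d) F)
        = fromBlocks (J - 1) 0 0 ((J⁻¹)ᵀ - 1) := by
      ext i j
      rcases i with i | i <;> rcases j with j | j <;> simp [Matrix.one_apply]
    rw [e, Matrix.fromBlocks_diagonal_pow, jb_rank_fromBlocks, hJ1, hNrank k]
    congr 1
    have e2 : ((J⁻¹)ᵀ - 1) ^ k = ((J⁻¹ - 1) ^ k)ᵀ := by
      rw [Matrix.transpose_pow, Matrix.transpose_sub, Matrix.transpose_one]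
    rw [e2, Matrix.rank_transpose]
    have e3 : J⁻¹ - 1 = N * (-J⁻¹) := by
      rw [← hJ1, Matrix.mul_neg, Matrix.sub_mul, hinv2, Matrix.one_mul]; simp
    have hcomm : Commute N (-J⁻¹) := by
      show N * (-J⁻¹) = (-J⁻¹) * N
      rw [← hJ1, Matrix.mul_neg, Matrix.neg_mul, Matrix.sub_mul, Matrix.mul_sub, hinv2, hinv1,
        Matrix.one_mul, Matrix.mul_one]
    have hu : IsUnit (-J⁻¹) := by
      refine ⟨⟨-J⁻¹, -J, ?_, ?_⟩, rfl⟩
      · rw [neg_mul_neg, hinv1]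
      · rw [neg_mul_neg, hinv2]
    have hdetu : IsUnit ((-J⁻¹) ^ k).det := (Matrix.isUnit_iff_isUnit_det _).1 (hu.pow k)
    rw [e3, hcomm.mul_pow, Matrix.rank_mul_eq_left_of_isUnit_det _ _ hdetu, hNrank k]

end Cfsg.Agent.Helper8
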