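import Mathlib
import Cfsg.Agent.Helper8.JordBlocks

set_option autoImplicit false

open Matrix

namespace Cfsg.Agent.Helper8

-- block sum of two alternating nondegenerate forms with isometries
theorem jb_combine_alt {F : Type*} [Field F] {κ₁ κ₂ : Type} [Fintype κ₁] [DecidableEq κ₁]
    [Fintype κ₂] [DecidableEq κ₂]
    (A₁ M₁ : Matrix κ₁ κ₁ F) (A₂ M₂ : Matrix κ₂ κ₂ F)
    (h1s : ∀ v, v ⬝ᵥ M₁ *ᵥ v = 0) (h1d : M₁.det ≠ 0) (h1i : A₁ᵀ * M₁ * A₁ = M₁)
    (h2s : ∀ v, v ⬝ᵥ M₂ *ᵥ v = 0) (h2d : M₂.det ≠ 0) (h2i : A₂ᵀ * M₂ * A₂ = M₂) :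
    (∀ v, v ⬝ᵥ (fromBlocks M₁ 0 0 M₂) *ᵥ v = 0) ∧ (fromBlocks M₁ 0 0 M₂).det ≠ 0 ∧
    (fromBlocks A₁ 0 0 A₂)ᵀ * fromBlocks M₁ 0 0 M₂ * fromBlocks A₁ 0 0 A₂
      = fromBlocks M₁ 0 0 M₂ ∧
    ∀ k, ((fromBlocks A₁ 0 0 A₂ - 1) ^ k).rank
      = ((A₁ - 1) ^ k).rank + ((A₂ - 1) ^ k).rank := by
  refine ⟨?_, ?_, ?_, ?_⟩
  · intro v
    obtain ⟨v₁, v₂, rfl⟩ : ∃ v₁ v₂, v = Sum.elim v₁ v₂ :=
      ⟨v ∘ Sum.inl, v ∘ Sum.inr, (Sum.elim_comp_inl_inr v).symm⟩
    rw [Matrix.fromBlocks_mulVec, sumElim_dotProduct_sumElim]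
    simp [h1s, h2s]
  · rw [Matrix.det_fromBlocks_zero₂₁]; exact mul_ne_zero h1d h2d
  · rw [Matrix.fromBlocks_transpose, Matrix.fromBlocks_multiply, Matrix.fromBlocks_multiply]
    simp [h1i, h2i]
  · intro k
    have e : (fromBlocks A₁ 0 0 A₂ - 1 : Matrix (κ₁ ⊕ κ₂) (κ₁ ⊕ κ₂) F)
        = fromBlocks (A₁ - 1) 0 0 (A₂ - 1) := by
      ext i j
      rcases i with i | i <;> rcases j with j | j <;> simp [Matrix.one_apply]
    rw [e, Matrix.fromBlocks_diagonal_pow, jb_rank_fromBlocks]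

theorem exists_of_blocks_alt {F : Type*} [Field F] (s : Multiset ℕ)
    (hpar : ∀ j, Odd j → Even (s.count j))
    (heven : ∀ m, ∃ A M : Matrix (Fin m ⊕ Fin m) (Fin m ⊕ Fin m) F,
      (∀ v, v ⬝ᵥ M *ᵥ v = 0) ∧ M.det ≠ 0 ∧ Aᵀ * M * A = M ∧
      ∀ k, ((A - 1) ^ k).rank = 2 * m - k)
    (hpair : ∀ d, ∃ A M : Matrix (Fin d ⊕ Fin d) (Fin d ⊕ Fin d) F,
      (∀ v, v ⬝ᵥ M *ᵥ v = 0) ∧ M.det ≠ 0 ∧ Aᵀ * M * A = M ∧
      ∀ k, ((A - 1) ^ k).rank = (d - k) + (d - k)) :
    ∃ (κ : Type) (_ : Fintype κ) (_ : DecidableEq κ) (A M : Matrix κ κ F),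
      (∀ v, v ⬝ᵥ M *ᵥ v = 0) ∧ M.det ≠ 0 ∧ Aᵀ * M * A = M ∧ Fintype.card κ = s.sum ∧
      ∀ k, ((A - 1) ^ k).rank = (s.map (fun a => a - k)).sum := by
  suffices H : ∀ (N : ℕ) (s : Multiset ℕ), Multiset.card s = N →
      (∀ j, Odd j → Even (s.count j)) →
      ∃ (κ : Type) (_ : Fintype κ) (_ : DecidableEq κ) (A M : Matrix κ κ F),
        (∀ v, v ⬝ᵥ M *ᵥ v = 0) ∧ M.det ≠ 0 ∧ Aᵀ * M * A = M ∧ Fintype.card κ = s.sum ∧
        ∀ k, ((A - 1) ^ k).rank = (s.map (fun a => a - k)).sum from H _ s rfl hpar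
  intro N
  induction N using Nat.strong_induction_on with
  | _ N ih =>
    intro s hcard hpar
    by_cases hs : s = 0
    · subst hs
      refine ⟨Fin 0, inferInstance, inferInstance, 0, 0, ?_, ?_,
        Subsingleton.elim _ _, by simp, ?_⟩
      · intro v
        exact Matrix.dotProduct_of_isEmpty _ _
      · rw [Matrix.det_isEmpty]; exact one_ne_zero
      · intro k
        have h := Matrix.rank_le_card_width (((0 : Matrix (Fin 0) (Fin 0) F) - 1) ^ k)
        rw [Fintype.card_fin] at h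
        rw [Multiset.map_zero, Multiset.sum_zero]
        exact Nat.le_zero.1 h
    · obtain ⟨a, ha⟩ := Multiset.exists_mem_of_ne_zero hs
      have hpos : 0 < Multiset.card s := Multiset.card_pos_iff_exists_mem.2 ⟨a, ha⟩
      rcases Nat.even_or_odd a with hae | hao
      · -- even block a = m + m: a single block
        obtain ⟨m, hm⟩ := hae
        have hcard' : Multiset.card (s.erase a) < N := by
          rw [Multiset.card_erase_of_mem ha, Nat.pred_eq_sub_one]
          omega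
        have hpar' : ∀ j, Odd j → Even ((s.erase a).count j) := by
          intro j hj
          have hja : j ≠ a := by
            rintro rfl
            exact (Nat.not_even_iff_odd.2 hj) ⟨m, hm⟩
          rw [Multiset.count_erase_of_ne hja]
          exact hpar j hj
        obtain ⟨κ', iF, iD, A', M', hs', hd', hi', hc', hr'⟩ := ih _ hcard' _ rfl hpar'
        obtain ⟨A₁, M₁, h1s, h1d, h1i, h1r⟩ := heven m
        obtain ⟨c1, c2, c3, c4⟩ := jb_combine_alt A₁ M₁ A' M' h1s h1d h1i hs' hd' hi'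
        have hsum : a + (s.erase a).sum = s.sum := Multiset.sum_erase ha
        refine ⟨(Fin m ⊕ Fin m) ⊕ κ', inferInstance, inferInstance,
          fromBlocks A₁ 0 0 A', fromBlocks M₁ 0 0 M', c1, c2, c3, ?_, ?_⟩
        · rw [Fintype.card_sum, Fintype.card_sum, Fintype.card_fin, hc', ← hsum]
          omega
        · intro k
          rw [c4 k, h1r k, hr' k]
          conv_rhs => rw [← Multiset.cons_erase ha]
          rw [Multiset.map_cons, Multiset.sum_cons]
          omega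
      · -- odd block: take two copies
        have hc1 : 1 ≤ s.count a := Multiset.count_pos.2 ha
        have hce : Even (s.count a) := hpar a hao
        have hc2 : 2 ≤ s.count a := by
          obtain ⟨c, hc⟩ := hce
          omega
        have ha1 : a ∈ s.erase a := by
          apply Multiset.count_pos.1
          rw [Multiset.count_erase_self]; omega
        have hcard' : Multiset.card ((s.erase a).erase a) < N := by
          rw [Multiset.card_erase_of_mem ha1, Multiset.card_erase_of_mem ha,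
            Nat.pred_eq_sub_one, Nat.pred_eq_sub_one]
          omega
        have hpar' : ∀ j, Odd j → Even (((s.erase a).erase a).count j) := by
          intro j hj
          by_cases hja : j = a
          · subst hja
            rw [Multiset.count_erase_self, Multiset.count_erase_self]
            obtain ⟨c, hc⟩ := hce
            exact ⟨c - 1, by omega⟩
          · rw [Multiset.count_erase_of_ne hja, Multiset.count_erase_of_ne hja]
            exact hpar j hj
        obtain ⟨κ', iF, iD, A', M', hs', hd', hi', hc', hr'⟩ := ih _ hcard' _ rfl hpar'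
        obtain ⟨A₂, M₂, h2s, h2d, h2i, h2r⟩ := hpair a
        obtain ⟨c1, c2, c3, c4⟩ := jb_combine_alt A₂ M₂ A' M' h2s h2d h2i hs' hd' hi'
        have hsum : a + (a + ((s.erase a).erase a).sum) = s.sum := by
          rw [Multiset.sum_erase ha1, Multiset.sum_erase ha]
        refine ⟨(Fin a ⊕ Fin a) ⊕ κ', inferInstance, inferInstance,
          fromBlocks A₂ 0 0 A', fromBlocks M₂ 0 0 M', c1, c2, c3, ?_, ?_⟩
        · rw [Fintype.card_sum, Fintype.card_sum, Fintype.card_fin, hc', ← hsum]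
          omega
        · intro k
          rw [c4 k, h2r k, hr' k]
          conv_rhs => rw [← Multiset.cons_erase ha, ← Multiset.cons_erase ha1]
          rw [Multiset.map_cons, Multiset.map_cons, Multiset.sum_cons, Multiset.sum_cons]
          omega

end Cfsg.Agent.Helper8
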