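import Mathlib

set_option autoImplicit false

namespace Cfsg.Agent.Helper8

theorem nil_double_of_odd_centralizer {α : Type} [Fintype α] [DecidableEq α]
    (P Q : Subgroup (Equiv.Perm α)) (hP : IsPGroup 2 P) (hPA : P ≤ alternatingGroup α)
    (hQ : Odd (Nat.card Q)) (hQn : Group.IsNilpotent Q)
    (hcomm : ∀ x ∈ P, ∀ y ∈ Q, x * y = y * x) (t : Equiv.Perm α)
    (ht : ∀ q ∈ Q, t * q = q * t) (hsign : Equiv.Perm.sign t = -1) :
    ∃ M : Subgroup (Equiv.Perm α), Group.IsNilpotent M ∧
      2 * (Nat.card P * Nat.card Q) ≤ Nat.card M := by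
  classical
  haveI : Fact (Nat.Prime 2) := ⟨Nat.prime_two⟩
  obtain ⟨C, hC⟩ : ∃ C : Subgroup (Equiv.Perm α),
      C = Subgroup.centralizer (Q : Set (Equiv.Perm α)) := ⟨_, rfl⟩
  have hPC : P ≤ C := by
    intro x hx
    rw [hC, Subgroup.mem_centralizer_iff]
    intro y hy
    exact (hcomm x hx y hy).symm
  have htC : t ∈ C := by
    rw [hC, Subgroup.mem_centralizer_iff]
    intro y hy
    exact (ht y hy).symm
  have hP' : IsPGroup 2 (P.subgroupOf C) := hP.comap_subtype
  obtain ⟨S, hS⟩ := hP'.exists_le_sylow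
  -- some element of S has sign -1
  have hex : ∃ s : C, s ∈ (S : Subgroup C) ∧ Equiv.Perm.sign (s : Equiv.Perm α) = -1 := by
    by_contra hno
    push Not at hno
    let σ : C →* ℤˣ := Equiv.Perm.sign.comp C.subtype
    have hSK : (S : Subgroup C) ≤ σ.ker := by
      intro s hs
      rw [MonoidHom.mem_ker]
      have h1 := hno s hs
      rcases Int.units_eq_one_or (Equiv.Perm.sign (s : Equiv.Perm α)) with h | h
      · exact h
      · exact absurd h h1
    have hsurj : Function.Surjective σ := by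
      intro u
      rcases Int.units_eq_one_or u with rfl | rfl
      · exact ⟨1, map_one σ⟩
      · exact ⟨⟨t, htC⟩, hsign⟩
    have h2 : σ.ker.index = 2 := by
      rw [Subgroup.index_ker, MonoidHom.range_eq_top.2 hsurj, Subgroup.card_top,
        Nat.card_eq_fintype_card, Fintype.card_units_int]
    have hcard : Nat.card (S : Subgroup C) ∣ Nat.card σ.ker := Subgroup.card_dvd_of_le hSK
    have hidx : σ.ker.index * Nat.card σ.ker = Nat.card C := Subgroup.index_mul_card σ.ker
    have hSc : Nat.card (S : Subgroup C) = 2 ^ (Nat.card C).factorization 2 :=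
      S.card_eq_multiplicity
    have hbad : 2 ^ ((Nat.card C).factorization 2 + 1) ∣ Nat.card C := by
      have h3 : Nat.card (S : Subgroup C) * 2 ∣ Nat.card σ.ker * 2 :=
        Nat.mul_dvd_mul hcard (dvd_refl 2)
      rw [h2] at hidx
      rw [mul_comm (Nat.card σ.ker), hidx, hSc, ← pow_succ] at h3
      exact h3
    exact Nat.pow_succ_factorization_not_dvd Nat.card_pos.ne' Nat.prime_two hbad
  obtain ⟨s, hsS, hsgn⟩ := hex
  have hsP : s ∉ P.subgroupOf C := by
    intro h
    rw [Subgroup.mem_subgroupOf] at h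
    have h1 := hPA h
    rw [Equiv.Perm.mem_alternatingGroup] at h1
    rw [h1] at hsgn
    exact absurd hsgn (by decide)
  have hcardP : Nat.card (P.subgroupOf C) = Nat.card P :=
    Nat.card_congr (Subgroup.subgroupOfEquivOfLe hPC).toEquiv
  have h2P : 2 * Nat.card P ≤ Nat.card (S : Subgroup C) := by
    obtain ⟨k, hk⟩ := Subgroup.card_dvd_of_le hS
    rw [hcardP] at hk
    have hpos : 0 < Nat.card (S : Subgroup C) := Nat.card_pos
    have hk1 : k ≠ 1 := by
      rintro rfl
      rw [mul_one] at hk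
      have heq : P.subgroupOf C = (S : Subgroup C) :=
        Subgroup.eq_of_le_of_card_ge hS (by rw [hcardP, hk])
      exact hsP (heq ▸ hsS)
    have hk0 : k ≠ 0 := by
      rintro rfl
      rw [mul_zero] at hk
      omega
    have hk2 : 2 ≤ k := by omega
    rw [hk]
    calc 2 * Nat.card P = Nat.card P * 2 := mul_comm _ _
      _ ≤ Nat.card P * k := Nat.mul_le_mul_left _ hk2
  -- the nilpotent group M = S ⊔ Q as the range of (s, q) ↦ s * q
  obtain ⟨S', hS'⟩ : ∃ S' : Subgroup (Equiv.Perm α), S' = (S : Subgroup C).map C.subtype :=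
    ⟨_, rfl⟩
  have hS'C : S' ≤ C := by
    rw [hS']
    rintro x ⟨c, _, rfl⟩
    exact c.2
  have hcommSQ : ∀ (x : S') (y : Q), Commute (S'.subtype x) (Q.subtype y) := by
    intro x y
    have hx : (x : Equiv.Perm α) ∈ C := hS'C x.2
    rw [hC, Subgroup.mem_centralizer_iff] at hx
    exact (hx y y.2).symm
  have hS'2 : IsPGroup 2 S' := by
    rw [hS']
    exact S.isPGroup'.map C.subtype
  haveI : Group.IsNilpotent S' := hS'2.isNilpotent
  haveI : Group.IsNilpotent Q := hQn
  have hS'card : Nat.card S' = Nat.card (S : Subgroup C) := by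
    rw [hS']
    exact (Nat.card_congr
      ((S : Subgroup C).equivMapOfInjective C.subtype C.subtype_injective).toEquiv).symm
  refine ⟨(MonoidHom.noncommCoprod S'.subtype Q.subtype hcommSQ).range, ?_, ?_⟩
  · exact Group.nilpotent_of_surjective
      (MonoidHom.noncommCoprod S'.subtype Q.subtype hcommSQ).rangeRestrict
      (MonoidHom.noncommCoprod S'.subtype Q.subtype hcommSQ).rangeRestrict_surjective
  · have hS'le : S' ≤ (MonoidHom.noncommCoprod S'.subtype Q.subtype hcommSQ).range := by
      intro x hx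
      refine ⟨(⟨x, hx⟩, 1), ?_⟩
      simp
    have hQle : Q ≤ (MonoidHom.noncommCoprod S'.subtype Q.subtype hcommSQ).range := by
      intro y hy
      refine ⟨(1, ⟨y, hy⟩), ?_⟩
      simp
    have hd1 := Subgroup.card_dvd_of_le hS'le
    have hd2 := Subgroup.card_dvd_of_le hQle
    have hcop : Nat.Coprime (Nat.card S') (Nat.card Q) := by
      rw [hS'card, S.card_eq_multiplicity]
      exact Nat.Coprime.pow_left _ (Nat.coprime_two_left.2 hQ)
    calc 2 * (Nat.card P * Nat.card Q) = (2 * Nat.card P) * Nat.card Q := by ring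
      _ ≤ Nat.card (S : Subgroup C) * Nat.card Q := Nat.mul_le_mul_right _ h2P
      _ = Nat.card S' * Nat.card Q := by rw [hS'card]
      _ ≤ Nat.card (MonoidHom.noncommCoprod S'.subtype Q.subtype hcommSQ).range :=
          Nat.le_of_dvd Nat.card_pos (hcop.mul_dvd_of_dvd_of_dvd hd1 hd2)

end Cfsg.Agent.Helper8
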