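import Mathlib

set_option autoImplicit false

namespace Cfsg.Agent.Helper8

-- two subgroups of C of full 2-power order are conjugate by an element of C
theorem nt_conj_of_card {G : Type*} [Group G] [Finite G] (C A B : Subgroup G)
    (hA : A ≤ C) (hB : B ≤ C)
    (hcA : Nat.card A = 2 ^ (Nat.card C).factorization 2)
    (hcB : Nat.card B = 2 ^ (Nat.card C).factorization 2) :
    ∃ h ∈ C, ∀ x ∈ A, h * x * h⁻¹ ∈ B := by
  haveI : Fact (Nat.Prime 2) := ⟨Nat.prime_two⟩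
  have e1 : Nat.card (A.subgroupOf C) = 2 ^ (Nat.card C).factorization 2 := by
    rw [Nat.card_congr (Subgroup.subgroupOfEquivOfLe hA).toEquiv, hcA]
  have e2 : Nat.card (B.subgroupOf C) = 2 ^ (Nat.card C).factorization 2 := by
    rw [Nat.card_congr (Subgroup.subgroupOfEquivOfLe hB).toEquiv, hcB]
  obtain ⟨h, hh⟩ := MulAction.exists_smul_eq C
    (Sylow.ofCard (A.subgroupOf C) e1) (Sylow.ofCard (B.subgroupOf C) e2)
  refine ⟨h, h.2, ?_⟩
  intro x hx
  have hxC : x ∈ C := hA hx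
  have hc : (⟨x, hxC⟩ : C) ∈ ((Sylow.ofCard (A.subgroupOf C) e1 : Sylow 2 C) : Subgroup C) := by
    rw [Sylow.coe_ofCard, Subgroup.mem_subgroupOf]
    exact hx
  have h1 := Subgroup.smul_mem_pointwise_smul _ (MulAut.conj h) _ hc
  rw [← Sylow.coe_subgroup_smul, hh, Sylow.coe_ofCard, Subgroup.mem_subgroupOf] at h1
  simpa [MulAut.smul_def] using h1

theorem nil_three_conj (n : ℕ) (z₁ z₂ : Equiv.Perm (Fin n))
    (T₁ T₂ : Subgroup (Equiv.Perm (Fin n)))
    (hz₁ : z₁.cycleType = {3}) (hz₂ : z₂.cycleType = {3})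
    (hT₁ : Nat.card T₁ = 2 ^ ((n - 3).factorial.factorization 2))
    (hT₂ : Nat.card T₂ = 2 ^ ((n - 3).factorial.factorization 2))
    (h₁ : ∀ t ∈ T₁, t * z₁ = z₁ * t) (h₂ : ∀ t ∈ T₂, t * z₂ = z₂ * t) :
    ∃ g : Equiv.Perm (Fin n), (T₂ ⊔ Subgroup.zpowers z₂) =
      (T₁ ⊔ Subgroup.zpowers z₁).map (MulAut.conj g).toMonoidHom := by
  classical
  obtain ⟨s, hs⟩ : ∃ s : Equiv.Perm (Fin n), s * z₁ * s⁻¹ = z₂ := by
    have hconj : IsConj z₁ z₂ := Equiv.Perm.isConj_iff_cycleType_eq.2 (by rw [hz₁, hz₂])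
    exact isConj_iff.1 hconj
  obtain ⟨C, hC⟩ : ∃ C : Subgroup (Equiv.Perm (Fin n)),
      C = Subgroup.centralizer {z₂} := ⟨_, rfl⟩
  have hCcard : (Nat.card C).factorization 2 = (n - 3).factorial.factorization 2 := by
    rw [hC, Equiv.Perm.nat_card_centralizer z₂, hz₂]
    have e3 : (3 : ℕ).factorization 2 = 0 := Nat.factorization_eq_zero_of_not_dvd (by norm_num)
    simp [Nat.factorization_mul, Nat.factorial_ne_zero, e3]
  obtain ⟨A₁, hA₁⟩ : ∃ A₁ : Subgroup (Equiv.Perm (Fin n)),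
      A₁ = T₁.map (MulAut.conj s).toMonoidHom := ⟨_, rfl⟩
  have hA₁C : A₁ ≤ C := by
    rw [hA₁]
    rintro _ ⟨x, hx, rfl⟩
    rw [hC, Subgroup.mem_centralizer_iff]
    intro y hy
    rw [Set.mem_singleton_iff.1 hy]
    have e := h₁ x hx
    show z₂ * (s * x * s⁻¹) = s * x * s⁻¹ * z₂
    rw [← hs]
    calc s * z₁ * s⁻¹ * (s * x * s⁻¹) = s * (z₁ * x) * s⁻¹ := by group
      _ = s * (x * z₁) * s⁻¹ := by rw [e]
      _ = s * x * s⁻¹ * (s * z₁ * s⁻¹) := by group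
  have hT₂C : T₂ ≤ C := by
    intro t ht
    rw [hC, Subgroup.mem_centralizer_iff]
    intro y hy
    rw [Set.mem_singleton_iff.1 hy]
    exact (h₂ t ht).symm
  have hcA₁ : Nat.card A₁ = Nat.card T₁ := by
    rw [hA₁]
    exact (Nat.card_congr
      (T₁.equivMapOfInjective _ (MulAut.conj s).injective).toEquiv).symm
  obtain ⟨h, hhC, hh⟩ := nt_conj_of_card C A₁ T₂ hA₁C hT₂C
    (by rw [hcA₁, hT₁, hCcard]) (by rw [hT₂, hCcard])
  refine ⟨h * s, ?_⟩
  have hmapT : T₁.map (MulAut.conj (h * s)).toMonoidHom = T₂ := by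
    apply Subgroup.eq_of_le_of_card_ge
    · rintro _ ⟨x, hx, rfl⟩
      have hmem : s * x * s⁻¹ ∈ A₁ := by
        rw [hA₁]
        exact ⟨x, hx, rfl⟩
      have h3 := hh (s * x * s⁻¹) hmem
      have e : (MulAut.conj (h * s)).toMonoidHom x = h * (s * x * s⁻¹) * h⁻¹ := by
        show h * s * x * (h * s)⁻¹ = h * (s * x * s⁻¹) * h⁻¹
        group
      rw [e]; exact h3
    · rw [hT₂, ← hT₁]
      exact le_of_eq (Nat.card_congr
        (T₁.equivMapOfInjective _ (MulAut.conj (h * s)).injective).toEquiv)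
  have hmapz : (Subgroup.zpowers z₁).map (MulAut.conj (h * s)).toMonoidHom
      = Subgroup.zpowers z₂ := by
    rw [MonoidHom.map_zpowers]
    congr 1
    have hz : h * z₂ = z₂ * h := by
      rw [hC, Subgroup.mem_centralizer_iff] at hhC
      exact (hhC z₂ (Set.mem_singleton z₂)).symm
    show h * s * z₁ * (h * s)⁻¹ = z₂
    calc h * s * z₁ * (h * s)⁻¹ = h * (s * z₁ * s⁻¹) * h⁻¹ := by group
      _ = h * z₂ * h⁻¹ := by rw [hs]
      _ = z₂ := by rw [hz]; group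
  rw [Subgroup.map_sup, hmapT, hmapz]

end Cfsg.Agent.Helper8
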