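import Mathlib
import Cfsg.Agent.Helper8.NilThree

set_option autoImplicit false

namespace Cfsg.Agent.Helper8

-- an odd permutation commuting with a 3-cycle (a swap of two fixed points)
theorem nt_swap_comm (n : ℕ) (h7 : 7 ≤ n) (z : Equiv.Perm (Fin n)) (hz : z.cycleType = {3}) :
    ∃ w : Equiv.Perm (Fin n), Equiv.Perm.sign w = -1 ∧ w * z = z * w := by
  classical
  have hsupp : z.support.card = 3 := by
    rw [← Equiv.Perm.sum_cycleType, hz]; rfl
  have hcompl : 1 < (z.support)ᶜ.card := by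
    rw [Finset.card_compl, hsupp, Fintype.card_fin]; omega
  obtain ⟨a, ha, b, hb, hab⟩ := Finset.one_lt_card.1 hcompl
  rw [Finset.mem_compl, Equiv.Perm.notMem_support] at ha hb
  refine ⟨Equiv.swap a b, Equiv.Perm.sign_swap hab, ?_⟩
  have hdisj : Equiv.Perm.Disjoint (Equiv.swap a b) z := by
    intro x
    by_cases hxa : x = a
    · right; rw [hxa]; exact ha
    · by_cases hxb : x = b
      · right; rw [hxb]; exact hb
      · left; exact Equiv.swap_apply_of_ne_of_ne hxa hxb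
  exact hdisj.commute.eq

theorem alt3_conj (n : ℕ) (h7 : 7 ≤ n) (z₁ z₂ : Equiv.Perm (Fin n))
    (T₁ T₂ : Subgroup (Equiv.Perm (Fin n))) (hz₁ : z₁.cycleType = {3})
    (hz₂ : z₂.cycleType = {3})
    (hT₁ : 2 * Nat.card T₁ = 2 ^ ((n - 3).factorial.factorization 2))
    (hT₂ : 2 * Nat.card T₂ = 2 ^ ((n - 3).factorial.factorization 2))
    (hA₁ : T₁ ≤ alternatingGroup (Fin n)) (hA₂ : T₂ ≤ alternatingGroup (Fin n))
    (h₁ : ∀ t ∈ T₁, t * z₁ = z₁ * t) (h₂ : ∀ t ∈ T₂, t * z₂ = z₂ * t) :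
    ∃ g : Equiv.Perm (Fin n), Equiv.Perm.sign g = 1 ∧
      (T₂ ⊔ Subgroup.zpowers z₂) =
        (T₁ ⊔ Subgroup.zpowers z₁).map (MulAut.conj g).toMonoidHom := by
  classical
  obtain ⟨s, hs, hsgn⟩ : ∃ s : Equiv.Perm (Fin n),
      s * z₁ * s⁻¹ = z₂ ∧ Equiv.Perm.sign s = 1 := by
    have hconj : IsConj z₁ z₂ := Equiv.Perm.isConj_iff_cycleType_eq.2 (by rw [hz₁, hz₂])
    obtain ⟨s₀, hs₀⟩ := isConj_iff.1 hconj
    rcases Int.units_eq_one_or (Equiv.Perm.sign s₀) with h | h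
    · exact ⟨s₀, hs₀, h⟩
    · obtain ⟨w, hw, hwz⟩ := nt_swap_comm n h7 z₁ hz₁
      refine ⟨s₀ * w, ?_, ?_⟩
      · rw [← hs₀]
        calc s₀ * w * z₁ * (s₀ * w)⁻¹ = s₀ * (w * z₁) * w⁻¹ * s₀⁻¹ := by group
          _ = s₀ * (z₁ * w) * w⁻¹ * s₀⁻¹ := by rw [hwz]
          _ = s₀ * z₁ * s₀⁻¹ := by group
      · rw [Equiv.Perm.sign_mul, h, hw]; decide
  obtain ⟨C, hC⟩ : ∃ C : Subgroup (Equiv.Perm (Fin n)),
      C = Subgroup.centralizer {z₂} := ⟨_, rfl⟩
  have hCcard : (Nat.card C).factorization 2 = (n - 3).factorial.factorization 2 := by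
    rw [hC, Equiv.Perm.nat_card_centralizer z₂, hz₂]
    have e3 : (3 : ℕ).factorization 2 = 0 := Nat.factorization_eq_zero_of_not_dvd (by norm_num)
    simp [Nat.factorization_mul, Nat.factorial_ne_zero, e3]
  obtain ⟨D, hD⟩ : ∃ D : Subgroup (Equiv.Perm (Fin n)),
      D = C ⊓ alternatingGroup (Fin n) := ⟨_, rfl⟩
  have hDC : D ≤ C := by rw [hD]; exact inf_le_left
  have hCD : 2 * Nat.card D = Nat.card C := by
    obtain ⟨w, hw, hwz⟩ := nt_swap_comm n h7 z₂ hz₂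
    have hwC : w ∈ C := by
      rw [hC, Subgroup.mem_centralizer_iff]
      intro y hy
      rw [Set.mem_singleton_iff.1 hy]
      exact hwz.symm
    let σ : C →* ℤˣ := Equiv.Perm.sign.comp C.subtype
    have hsurj : Function.Surjective σ := by
      intro u
      rcases Int.units_eq_one_or u with rfl | rfl
      · exact ⟨1, map_one σ⟩
      · exact ⟨⟨w, hwC⟩, hw⟩
    have h2 : σ.ker.index = 2 := by
      rw [Subgroup.index_ker, MonoidHom.range_eq_top.2 hsurj, Subgroup.card_top,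
        Nat.card_eq_fintype_card, Fintype.card_units_int]
    have hidx : σ.ker.index * Nat.card σ.ker = Nat.card C := Subgroup.index_mul_card σ.ker
    have hker : σ.ker = D.subgroupOf C := by
      ext x
      rw [MonoidHom.mem_ker, Subgroup.mem_subgroupOf, hD, Subgroup.mem_inf,
        Equiv.Perm.mem_alternatingGroup]
      constructor
      · intro hx; exact ⟨x.2, hx⟩
      · intro hx; exact hx.2
    rw [h2, hker, Nat.card_congr (Subgroup.subgroupOfEquivOfLe hDC).toEquiv] at hidx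
    exact hidx
  obtain ⟨w', hw'⟩ : ∃ w' : ℕ, w' = (Nat.card D).factorization 2 := ⟨_, rfl⟩
  have hvw : (n - 3).factorial.factorization 2 = w' + 1 := by
    rw [← hCcard, ← hCD, Nat.factorization_mul (by norm_num) Nat.card_pos.ne',
      Finsupp.add_apply, Nat.Prime.factorization_self Nat.prime_two, hw']
    omega
  rw [hvw, pow_succ] at hT₁ hT₂
  have hT₁' : Nat.card T₁ = 2 ^ w' := by omega
  have hT₂' : Nat.card T₂ = 2 ^ w' := by omega
  obtain ⟨A₁, hA₁'⟩ : ∃ A₁ : Subgroup (Equiv.Perm (Fin n)),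
      A₁ = T₁.map (MulAut.conj s).toMonoidHom := ⟨_, rfl⟩
  have hA₁D : A₁ ≤ D := by
    rw [hA₁', hD]
    rintro _ ⟨x, hx, rfl⟩
    refine Subgroup.mem_inf.2 ⟨?_, ?_⟩
    · rw [hC, Subgroup.mem_centralizer_iff]
      intro y hy
      rw [Set.mem_singleton_iff.1 hy]
      have e := h₁ x hx
      show z₂ * (s * x * s⁻¹) = s * x * s⁻¹ * z₂
      rw [← hs]
      calc s * z₁ * s⁻¹ * (s * x * s⁻¹) = s * (z₁ * x) * s⁻¹ := by group
        _ = s * (x * z₁) * s⁻¹ := by rw [e]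
        _ = s * x * s⁻¹ * (s * z₁ * s⁻¹) := by group
    · have hx1 : Equiv.Perm.sign x = 1 := Equiv.Perm.mem_alternatingGroup.1 (hA₁ hx)
      rw [Equiv.Perm.mem_alternatingGroup]
      show Equiv.Perm.sign (s * x * s⁻¹) = 1
      rw [Equiv.Perm.sign_mul, Equiv.Perm.sign_mul, Equiv.Perm.sign_inv, hx1, hsgn]
      decide
  have hT₂D : T₂ ≤ D := by
    intro t ht
    rw [hD]
    refine Subgroup.mem_inf.2 ⟨?_, hA₂ ht⟩
    rw [hC, Subgroup.mem_centralizer_iff]
    intro y hy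
    rw [Set.mem_singleton_iff.1 hy]
    exact (h₂ t ht).symm
  have hcA₁ : Nat.card A₁ = Nat.card T₁ := by
    rw [hA₁']
    exact (Nat.card_congr
      (T₁.equivMapOfInjective _ (MulAut.conj s).injective).toEquiv).symm
  obtain ⟨h, hhD, hh⟩ := nt_conj_of_card D A₁ T₂ hA₁D hT₂D
    (by rw [hcA₁, hT₁', hw']) (by rw [hT₂', hw'])
  have hhC : h ∈ C := hDC hhD
  have hhA : Equiv.Perm.sign h = 1 := by
    rw [hD] at hhD
    exact Equiv.Perm.mem_alternatingGroup.1 (Subgroup.mem_inf.1 hhD).2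
  refine ⟨h * s, by rw [Equiv.Perm.sign_mul, hhA, hsgn, mul_one], ?_⟩
  have hmapT : T₁.map (MulAut.conj (h * s)).toMonoidHom = T₂ := by
    apply Subgroup.eq_of_le_of_card_ge
    · rintro _ ⟨x, hx, rfl⟩
      have hmem : s * x * s⁻¹ ∈ A₁ := by
        rw [hA₁']
        exact ⟨x, hx, rfl⟩
      have h3 := hh (s * x * s⁻¹) hmem
      have e : (MulAut.conj (h * s)).toMonoidHom x = h * (s * x * s⁻¹) * h⁻¹ := by
        show h * s * x * (h * s)⁻¹ = h * (s * x * s⁻¹) * h⁻¹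
        group
      rw [e]; exact h3
    · rw [hT₂', ← hT₁']
      exact le_of_eq (Nat.card_congr
        (T₁.equivMapOfInjective _ (MulAut.conj (h * s)).injective).toEquiv)
  have hmapz : (Subgroup.zpowers z₁).map (MulAut.conj (h * s)).toMonoidHom
      = Subgroup.zpowers z₂ := by
    rw [MonoidHom.map_zpowers]
    congr 1
    have hz : h * z₂ = z₂ * h := by
      rw [hC, Subgroup.mem_centralizer_iff] at hhC
      exact (hhC z₂ (Set.mem_singleton z₂)).symm
    show h * s * z₁ * (h * s)⁻¹ = z₂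
    calc h * s * z₁ * (h * s)⁻¹ = h * (s * z₁ * s⁻¹) * h⁻¹ := by group
      _ = h * z₂ * h⁻¹ := by rw [hs]
      _ = z₂ := by rw [hz]; group
  rw [Subgroup.map_sup, hmapT, hmapz]

end Cfsg.Agent.Helper8
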