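import Mathlib
import Cfsg.Agent.Lead.NilBound

set_option autoImplicit false

namespace Cfsg.Agent.Helper8

-- v_2(n!) = n/2 + v_2((n/2)!)
theorem np_v2_half (n : ℕ) :
    (n.factorial).factorization 2 = n / 2 + ((n / 2).factorial).factorization 2 := by
  haveI : Fact (Nat.Prime 2) := ⟨Nat.prime_two⟩
  have h2 : ∀ j : ℕ, ((2 * j).factorial).factorization 2 = (j.factorial).factorization 2 + j := by
    intro j
    rw [Nat.factorization_def _ Nat.prime_two, Nat.factorization_def _ Nat.prime_two]
    exact padicValNat_factorial_mul j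
  rcases Nat.even_or_odd' n with ⟨j, rfl | rfl⟩
  · rw [h2 j]
    have e : 2 * j / 2 = j := by omega
    rw [e]; omega
  · rw [Nat.factorial_succ, Nat.factorization_mul (by omega) (Nat.factorial_ne_zero _)]
    have h0 : (2 * j + 1).factorization 2 = 0 := Nat.factorization_eq_zero_of_not_dvd (by omega)
    simp only [Finsupp.coe_add, Pi.add_apply, h0, zero_add]
    rw [h2 j]
    have e : (2 * j + 1) / 2 = j := by omega
    rw [e]; omega

theorem np_v2_ge2 (n : ℕ) : n / 2 + n / 4 ≤ (n.factorial).factorization 2 := by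
  rw [np_v2_half n, np_v2_half (n / 2)]
  have e : n / 2 / 2 = n / 4 := by omega
  rw [e]; omega

theorem np_v2_ge3 (n : ℕ) : n / 2 + n / 4 + n / 8 ≤ (n.factorial).factorization 2 := by
  rw [np_v2_half n, np_v2_half (n / 2), np_v2_half (n / 2 / 2)]
  have e1 : n / 2 / 2 = n / 4 := by omega
  have e2 : n / 4 / 2 = n / 8 := by omega
  rw [e1, e2]; omega

-- Legendre for prime powers: v_p((p^k)!) * (p-1) + 1 = p^k
theorem np_vp_pow (p : ℕ) (hp : p.Prime) (k : ℕ) :
    ((p ^ k).factorial).factorization p * (p - 1) + 1 = p ^ k := by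
  haveI : Fact p.Prime := ⟨hp⟩
  induction k with
  | zero => simp
  | succ k ih =>
    have h : ((p ^ (k + 1)).factorial).factorization p
        = ((p ^ k).factorial).factorization p + p ^ k := by
      rw [Nat.factorization_def _ hp, Nat.factorization_def _ hp, pow_succ, mul_comm]
      exact padicValNat_factorial_mul (p ^ k)
    have h1 : 1 ≤ p := hp.one_lt.le
    have h2 : p ^ k * (p - 1) + p ^ k = p ^ (k + 1) := by
      rw [pow_succ]
      nth_rewrite 2 [← mul_one (p ^ k)]
      rw [← mul_add]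
      congr 1
      omega
    rw [h, add_mul]
    omega

theorem np_three (k : ℕ) (hk : 2 ≤ k) :
    3 ^ ((3 ^ k).factorial).factorization 3 ≤ 2 ^ ((3 ^ k).factorial).factorization 2 := by
  have hq : 3 ^ k = 9 ∨ 27 ≤ 3 ^ k := by
    rcases Nat.lt_or_ge k 3 with h | h
    · left
      have : k = 2 := by omega
      rw [this]; norm_num
    · right
      calc 27 = 3 ^ 3 := by norm_num
        _ ≤ 3 ^ k := Nat.pow_le_pow_right (by norm_num) h
  have hv := np_vp_pow 3 Nat.prime_three k
  have hw := np_v2_ge3 (3 ^ k)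
  generalize 3 ^ k = q at hq hv hw ⊢
  generalize (q.factorial).factorization 3 = v at hv ⊢
  generalize (q.factorial).factorization 2 = w at hw ⊢
  rcases hq with rfl | hq
  · have hv4 : v = 4 := by omega
    have hw7 : 7 ≤ w := by omega
    subst hv4
    calc 3 ^ 4 ≤ 2 ^ 7 := by norm_num
      _ ≤ 2 ^ w := Nat.pow_le_pow_right (by norm_num) hw7
  · have h8 : (3 ^ v) ^ 8 ≤ (2 ^ w) ^ 8 := by
      rw [← pow_mul, ← pow_mul]
      obtain ⟨t, ht⟩ : ∃ t, q = 17 + t := ⟨q - 17, by omega⟩
      have e1 : v * 8 = 4 * (16 + t) := by omega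
      have e2 : 102 + 7 * t ≤ w * 8 := by omega
      calc 3 ^ (v * 8) = (3 ^ 4) ^ (16 + t) := by rw [e1, pow_mul]
        _ = 81 ^ 16 * 81 ^ t := by rw [pow_add]; norm_num
        _ ≤ 2 ^ 102 * 128 ^ t :=
            Nat.mul_le_mul (by norm_num) (Nat.pow_le_pow_left (by norm_num) t)
        _ = 2 ^ (102 + 7 * t) := by rw [pow_add, pow_mul]; norm_num
        _ ≤ 2 ^ (w * 8) := Nat.pow_le_pow_right (by norm_num) e2
    exact (Nat.pow_le_pow_iff_left (by norm_num)).1 h8

theorem np_pow4 (p : ℕ) (hp : 5 ≤ p) : p ^ 4 ≤ 2 ^ (3 * p - 5) := by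
  induction p, hp using Nat.le_induction with
  | base => norm_num
  | succ n hn ih =>
    have h1 : (n + 1) ^ 4 ≤ 8 * n ^ 4 := by
      have h5 : 5 * (n + 1) ≤ 6 * n := by omega
      have h6 : (5 * (n + 1)) ^ 4 ≤ (6 * n) ^ 4 := Nat.pow_le_pow_left h5 4
      rw [mul_pow, mul_pow] at h6
      norm_num at h6
      have hXY : ∀ X Y : ℕ, 625 * X ≤ 1296 * Y → X ≤ 8 * Y := by
        intro X Y hh; omega
      exact hXY _ _ h6
    have e : 3 * (n + 1) - 5 = (3 * n - 5) + 3 := by omega
    rw [e, pow_add]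
    calc (n + 1) ^ 4 ≤ 8 * n ^ 4 := h1
      _ ≤ 8 * 2 ^ (3 * n - 5) := Nat.mul_le_mul_left 8 ih
      _ = 2 ^ (3 * n - 5) * 2 ^ 3 := by ring

theorem np_ge5 (p : ℕ) (hp : p.Prime) (hp5 : 5 ≤ p) (k : ℕ) (hk : 1 ≤ k) :
    p ^ ((p ^ k).factorial).factorization p ≤ 2 ^ ((p ^ k).factorial).factorization 2 := by
  have hqp : p ≤ p ^ k := by
    calc p = p ^ 1 := (pow_one p).symm
      _ ≤ p ^ k := Nat.pow_le_pow_right (by omega) hk
  have hv := np_vp_pow p hp k
  have hw := np_v2_ge2 (p ^ k)
  generalize p ^ k = q at hqp hv hw ⊢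
  generalize (q.factorial).factorization p = v at hv ⊢
  generalize (q.factorial).factorization 2 = w at hw ⊢
  have h4 := np_pow4 p hp5
  have hN : 4 * (p - 1) ≠ 0 := by omega
  refine (Nat.pow_le_pow_iff_left hN).1 ?_
  rw [← pow_mul, ← pow_mul]
  have e1 : v * (4 * (p - 1)) = 4 * (q - 1) := by
    have : v * (p - 1) = q - 1 := by omega
    calc v * (4 * (p - 1)) = 4 * (v * (p - 1)) := by ring
      _ = 4 * (q - 1) := by rw [this]
  have e2 : (3 * p - 5) * (q - 1) ≤ w * (4 * (p - 1)) := by
    have h4w : 3 * q - 5 ≤ 4 * w := by omega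
    have hpq : (3 * p - 5) * (q - 1) ≤ (3 * q - 5) * (p - 1) := by
      obtain ⟨P, rfl⟩ : ∃ P, p = P + 5 := ⟨p - 5, by omega⟩
      obtain ⟨Q, rfl⟩ : ∃ Q, q = P + 5 + Q := ⟨q - (P + 5), by omega⟩
      have a1 : 3 * (P + 5) - 5 = 3 * P + 10 := by omega
      have a2 : P + 5 + Q - 1 = P + 4 + Q := by omega
      have a3 : 3 * (P + 5 + Q) - 5 = 3 * P + 3 * Q + 10 := by omega
      have a4 : P + 5 - 1 = P + 4 := by omega
      rw [a1, a2, a3, a4]
      nlinarith
    calc (3 * p - 5) * (q - 1) ≤ (3 * q - 5) * (p - 1) := hpq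
      _ ≤ (4 * w) * (p - 1) := Nat.mul_le_mul_right _ h4w
      _ = w * (4 * (p - 1)) := by ring
  calc p ^ (v * (4 * (p - 1))) = (p ^ 4) ^ (q - 1) := by rw [e1, pow_mul]
    _ ≤ (2 ^ (3 * p - 5)) ^ (q - 1) := Nat.pow_le_pow_left h4 _
    _ = 2 ^ ((3 * p - 5) * (q - 1)) := by rw [← pow_mul]
    _ ≤ 2 ^ (w * (4 * (p - 1))) := Nat.pow_le_pow_right (by norm_num) e2

-- (i) odd prime powers other than 3
theorem np_odd_pp (p : ℕ) (hp : p.Prime) (hp2 : p ≠ 2) (k : ℕ) (hk : 1 ≤ k) (h3 : p ^ k ≠ 3) :
    p ^ ((p ^ k).factorial).factorization p ≤ 2 ^ ((p ^ k).factorial).factorization 2 := by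
  rcases Nat.lt_or_ge p 5 with h | h
  · have hp3 : p = 3 := by
      have h2 := hp.two_le
      interval_cases p
      · exact absurd rfl hp2
      · rfl
      · exact absurd hp (by decide)
    subst hp3
    have hk2 : 2 ≤ k := by
      by_contra hlt
      have : k = 1 := by omega
      apply h3; rw [this]; norm_num
    exact np_three k hk2
  · exact np_ge5 p hp h k hk

theorem np_nb_prod (m : ℕ) :
    Lead.nilBound m
      = m.factorization.prod (fun p k => p ^ ((p ^ k).factorial).factorization p) := by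
  unfold Lead.nilBound
  rw [Finsupp.prod, Nat.support_factorization]

theorem np_nb_mul (a b : ℕ) (hab : Nat.Coprime a b) :
    Lead.nilBound (a * b) = Lead.nilBound a * Lead.nilBound b := by
  rw [np_nb_prod, np_nb_prod, np_nb_prod, Nat.factorization_mul_of_coprime hab]
  exact Finsupp.prod_add_index_of_disjoint (by
    rw [Nat.support_factorization, Nat.support_factorization]
    exact hab.disjoint_primeFactors) _

theorem np_nb_prime_pow (p k : ℕ) (hp : p.Prime) :
    Lead.nilBound (p ^ k) = p ^ ((p ^ k).factorial).factorization p := by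
  rw [np_nb_prod, hp.factorization_pow, Finsupp.prod_single_index]
  simp

theorem np_v2_mul (a b : ℕ) (ha : 2 ≤ a) (hb : 2 ≤ b) :
    (a.factorial).factorization 2 + (b.factorial).factorization 2
      ≤ ((a * b).factorial).factorization 2 := by
  have h1 : a.factorial * b.factorial ∣ (a * b).factorial :=
    (Nat.factorial_mul_factorial_dvd_factorial_add a b).trans
      (Nat.factorial_dvd_factorial (add_le_mul ha hb))
  have h2 := (Nat.factorization_le_iff_dvd
    (Nat.mul_ne_zero (Nat.factorial_ne_zero a) (Nat.factorial_ne_zero b))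
    (Nat.factorial_ne_zero (a * b))).2 h1 2
  rw [Nat.factorization_mul (Nat.factorial_ne_zero a) (Nat.factorial_ne_zero b)] at h2
  simpa using h2

theorem np_no3 (m : ℕ) : 0 < m → m.factorization 3 ≠ 1 →
    Lead.nilBound m ≤ 2 ^ (m.factorial).factorization 2 := by
  induction m using Nat.recOnPosPrimePosCoprime with
  | prime_pow p n hp hn =>
    intro _ h3
    rw [np_nb_prime_pow p n hp]
    by_cases hp2 : p = 2
    · subst hp2; exact le_rfl
    · apply np_odd_pp p hp hp2 n hn
      intro h
      apply h3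
      rw [h]
      exact Nat.prime_three.factorization_self
  | zero => intro h; exact absurd h (lt_irrefl 0)
  | one => intro _ _; simp [Lead.nilBound]
  | coprime a b ha hb hab iha ihb =>
    intro _ h3
    have hfa : (a * b).factorization 3 = a.factorization 3 + b.factorization 3 := by
      rw [Nat.factorization_mul_of_coprime hab]; rfl
    rw [hfa] at h3
    have key : a.factorization 3 = 0 ∨ b.factorization 3 = 0 := by
      by_cases hda : 3 ∣ a
      · right
        apply Nat.factorization_eq_zero_of_not_dvd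
        intro hdb
        have hg := Nat.dvd_gcd hda hdb
        rw [hab.gcd_eq_one] at hg
        omega
      · left; exact Nat.factorization_eq_zero_of_not_dvd hda
    have h3a : a.factorization 3 ≠ 1 := by omega
    have h3b : b.factorization 3 ≠ 1 := by omega
    rw [np_nb_mul a b hab]
    calc Lead.nilBound a * Lead.nilBound b
        ≤ 2 ^ (a.factorial).factorization 2 * 2 ^ (b.factorial).factorization 2 :=
          Nat.mul_le_mul (iha (by omega) h3a) (ihb (by omega) h3b)
      _ = 2 ^ ((a.factorial).factorization 2 + (b.factorial).factorization 2) :=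
          (pow_add _ _ _).symm
      _ ≤ 2 ^ ((a * b).factorial).factorization 2 :=
          Nat.pow_le_pow_right (by norm_num) (np_v2_mul a b ha hb)

theorem nilBound_three : Lead.nilBound 3 = 3 := by
  have hv := np_vp_pow 3 Nat.prime_three 1
  have h := np_nb_prime_pow 3 1 Nat.prime_three
  simp only [pow_one] at hv h
  rw [h]
  have hv1 : (Nat.factorial 3).factorization 3 = 1 := by omega
  rw [hv1, pow_one]

theorem nilBound_le (m : ℕ) (hm : 0 < m) (h3 : m ≠ 3) :
    Lead.nilBound m ≤ 2 ^ (m.factorial.factorization 2) := by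
  by_cases h : m.factorization 3 = 1
  · have hdvd : 3 ∣ m := by
      by_contra hnd
      rw [Nat.factorization_eq_zero_of_not_dvd hnd] at h
      exact absurd h (by norm_num)
    obtain ⟨u, rfl⟩ := hdvd
    have hm0 : 3 * u ≠ 0 := by omega
    have hu3 : ¬ 3 ∣ u := by
      intro hd
      obtain ⟨w, rfl⟩ := hd
      have h9 : 3 ^ 2 ∣ 3 * (3 * w) := ⟨w, by ring⟩
      have := (Nat.Prime.pow_dvd_iff_le_factorization Nat.prime_three hm0).1 h9
      omega
    have hcop : Nat.Coprime 3 u := (Nat.Prime.coprime_iff_not_dvd Nat.prime_three).2 hu3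
    have hu2 : 2 ≤ u := by omega
    rw [np_nb_mul 3 u hcop, nilBound_three]
    have hu : Lead.nilBound u ≤ 2 ^ (u.factorial).factorization 2 :=
      np_no3 u (by omega) (by rw [Nat.factorization_eq_zero_of_not_dvd hu3]; norm_num)
    have hv : (u.factorial).factorization 2 + 2 ≤ ((3 * u).factorial).factorization 2 := by
      have h1 : u.factorial * (2 * u).factorial ∣ (3 * u).factorial := by
        have := Nat.factorial_mul_factorial_dvd_factorial_add u (2 * u)
        have e : u + 2 * u = 3 * u := by ring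
        rwa [e] at this
      have h2 := (Nat.factorization_le_iff_dvd
        (Nat.mul_ne_zero (Nat.factorial_ne_zero u) (Nat.factorial_ne_zero (2 * u)))
        (Nat.factorial_ne_zero (3 * u))).2 h1 2
      rw [Nat.factorization_mul (Nat.factorial_ne_zero u) (Nat.factorial_ne_zero (2 * u))] at h2
      have h3' : 2 ≤ ((2 * u).factorial).factorization 2 := by
        have := np_v2_ge2 (2 * u)
        omega
      simp only [Finsupp.coe_add, Pi.add_apply] at h2
      omega
    calc 3 * Lead.nilBound u ≤ 2 ^ 2 * 2 ^ (u.factorial).factorization 2 :=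
          Nat.mul_le_mul (by norm_num) hu
      _ = 2 ^ ((u.factorial).factorization 2 + 2) := by rw [pow_add]; ring
      _ ≤ 2 ^ ((3 * u).factorial).factorization 2 := Nat.pow_le_pow_right (by norm_num) hv
  · exact np_no3 m hm h

end Cfsg.Agent.Helper8
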