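import Mathlib
import Cfsg.Prelude.Def_TwoFusion
import Cfsg.Agent.Helper8.QuatFacts
import Cfsg.Agent.Helper8.ZStarClaim
import Cfsg.Agent.Helper2.Isolated

set_option autoImplicit false

namespace Cfsg.Agent.Helper8

open Cfsg

/-- the product of the `N`-orbit of `z` inside a commutative subgroup `E` normalized by `N` -/
theorem qr_orbit_prod {G : Type*} [Group G] [Finite G] (E N : Subgroup G)
    (hEc : ∀ a ∈ E, ∀ b ∈ E, a * b = b * a)
    (hNE : ∀ n ∈ N, ∀ e ∈ E, n * e * n⁻¹ ∈ E) (z : G) (hz : z ∈ E) (K : Subgroup G)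
    (hK : ∀ n ∈ N, n * z * n⁻¹ ≠ z → n * z * n⁻¹ ∈ K) :
    ∃ w ∈ E, (∀ n ∈ N, n * w * n⁻¹ = w) ∧ z⁻¹ * w ∈ K := by
  classical
  letI : CommGroup ↥E :=
    { (inferInstance : Group ↥E) with
      mul_comm := fun a b => Subtype.ext (hEc a a.2 b b.2) }
  haveI : Fintype ↥N := Fintype.ofFinite _
  obtain ⟨θ, hθ⟩ : ∃ θ : ↥N → ↥E → ↥E, ∀ (n : ↥N) (e : ↥E), ((θ n e : ↥E) : G) = n * e * (n : G)⁻¹ :=
    ⟨fun n e => ⟨n * e * (n : G)⁻¹, hNE n n.2 e e.2⟩, fun _ _ => rfl⟩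
  obtain ⟨O, hO⟩ : ∃ O : Finset ↥E, O = Finset.univ.image (fun n : ↥N => θ n ⟨z, hz⟩) := ⟨_, rfl⟩
  have hOmem : ∀ t : ↥E, t ∈ O ↔ ∃ n : ↥N, θ n ⟨z, hz⟩ = t := by
    intro t
    rw [hO, Finset.mem_image]
    constructor
    · rintro ⟨n, -, h⟩; exact ⟨n, h⟩
    · rintro ⟨n, h⟩; exact ⟨n, Finset.mem_univ _, h⟩
  refine ⟨((∏ t ∈ O, t : ↥E) : G), (∏ t ∈ O, t : ↥E).2, ?_, ?_⟩
  · intro m hm
    let θm : ↥E →* ↥E :=
      { toFun := θ ⟨m, hm⟩
        map_one' := Subtype.ext (by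
          rw [hθ]
          show m * (1 : G) * m⁻¹ = 1
          group)
        map_mul' := fun a b => Subtype.ext (by
          rw [hθ]
          show m * ((a : G) * (b : G)) * m⁻¹ = ((θ ⟨m, hm⟩ a : ↥E) : G) * ((θ ⟨m, hm⟩ b : ↥E) : G)
          rw [hθ, hθ]
          show m * ((a : G) * (b : G)) * m⁻¹ = (m * (a : G) * m⁻¹) * (m * (b : G) * m⁻¹)
          group) }
    have hθm : ∀ e : ↥E, ((θm e : ↥E) : G) = m * (e : G) * m⁻¹ := fun e => hθ ⟨m, hm⟩ e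
    have hinj : Function.Injective θm := by
      intro a b h
      have h1 : m * (a : G) * m⁻¹ = m * (b : G) * m⁻¹ := by
        rw [← hθm a, ← hθm b, h]
      exact Subtype.ext (mul_left_cancel (mul_right_cancel h1))
    have h1 : θm (∏ t ∈ O, t) = ∏ t ∈ O, θm t := map_prod θm _ O
    have h2 : ∏ t ∈ O.image θm, t = ∏ t ∈ O, θm t :=
      Finset.prod_image (fun a _ b _ h => hinj h)
    have h3 : O.image θm = O := by
      ext t
      rw [Finset.mem_image, hOmem]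
      constructor
      · rintro ⟨s, hs, rfl⟩
        obtain ⟨n, rfl⟩ := (hOmem s).1 hs
        refine ⟨⟨m, hm⟩ * n, Subtype.ext ?_⟩
        rw [hθ, hθm, hθ]
        show m * (n : G) * z * (m * (n : G))⁻¹ = m * ((n : G) * z * (n : G)⁻¹) * m⁻¹
        group
      · rintro ⟨n, rfl⟩
        refine ⟨θ (⟨m, hm⟩⁻¹ * n) ⟨z, hz⟩, (hOmem _).2 ⟨_, rfl⟩, Subtype.ext ?_⟩
        rw [hθm, hθ, hθ]
        show m * (m⁻¹ * (n : G) * z * (m⁻¹ * (n : G))⁻¹) * m⁻¹ = (n : G) * z * (n : G)⁻¹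
        group
    have h4 : θm (∏ t ∈ O, t) = ∏ t ∈ O, t := by rw [h1, ← h2, h3]
    have h5 := congrArg Subtype.val h4
    rw [hθm] at h5
    exact h5
  · have hzO : (⟨z, hz⟩ : ↥E) ∈ O := by
      rw [hOmem]
      refine ⟨1, Subtype.ext ?_⟩
      rw [hθ]
      show (1 : G) * z * (1 : G)⁻¹ = z
      group
    have h1 : (⟨z, hz⟩ : ↥E) * ∏ t ∈ O.erase ⟨z, hz⟩, t = ∏ t ∈ O, t :=
      Finset.mul_prod_erase O (fun t => t) hzO
    have h2 : ((∏ t ∈ O.erase ⟨z, hz⟩, t : ↥E) : G) ∈ K := by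
      apply Finset.prod_induction (fun t : ↥E => t) (fun e : ↥E => (e : G) ∈ K)
      · intro a b ha hb
        exact K.mul_mem ha hb
      · exact K.one_mem
      · intro t ht
        obtain ⟨hne, htO⟩ := Finset.mem_erase.1 ht
        obtain ⟨n, rfl⟩ := (hOmem t).1 htO
        rw [hθ]
        apply hK n n.2
        intro h
        apply hne
        apply Subtype.ext
        rw [hθ]
        exact h
    have h3 : z⁻¹ * ((∏ t ∈ O, t : ↥E) : G) = ((∏ t ∈ O.erase ⟨z, hz⟩, t : ↥E) : G) := by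
      rw [← h1]
      show z⁻¹ * (z * ((∏ t ∈ O.erase ⟨z, hz⟩, t : ↥E) : G)) = _
      group
    rw [h3]
    exact h2

/-- generators of an even generalized quaternion group -/
theorem qr_quat_gens {k j : ℕ} (hk : k = j + j) :
    ∃ a₀ x : QuaternionGroup k, a₀ * a₀ = QuaternionGroup.a k ∧ x * x = QuaternionGroup.a k ∧
      x * a₀ * x⁻¹ = a₀⁻¹ := by
  subst hk
  refine ⟨QuaternionGroup.a j, QuaternionGroup.xa 0, ?_, ?_, ?_⟩
  · rw [QuaternionGroup.a_mul_a]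
    congr 1
    push_cast
    rfl
  · rw [QuaternionGroup.xa_mul_xa]
    congr 1
    ring
  · rw [mul_inv_eq_iff_eq_mul, eq_inv_mul_iff_mul_eq, QuaternionGroup.xa_mul_a,
      QuaternionGroup.a_mul_xa]
    congr 1
    ring

section DirProd

variable {G : Type*} [Group G]

theorem qr_decomp (Q R T : Subgroup G) (hcomm : ∀ a ∈ Q, ∀ b ∈ R, a * b = b * a)
    (hsup : Q ⊔ R = T) : ∀ s ∈ T, ∃ q ∈ Q, ∃ c ∈ R, s = q * c := by
  intro s hs
  rw [← hsup] at hs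
  let T' : Subgroup G :=
    { carrier := {s | ∃ q ∈ Q, ∃ c ∈ R, s = q * c}
      mul_mem' := by
        rintro _ _ ⟨q, hq, c, hc, rfl⟩ ⟨q', hq', c', hc', rfl⟩
        refine ⟨q * q', Q.mul_mem hq hq', c * c', R.mul_mem hc hc', ?_⟩
        have h := hcomm q' hq' c hc
        calc q * c * (q' * c') = q * (c * q') * c' := by group
          _ = q * (q' * c) * c' := by rw [h]
          _ = q * q' * (c * c') := by group
      one_mem' := ⟨1, Q.one_mem, 1, R.one_mem, (mul_one 1).symm⟩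
      inv_mem' := by
        rintro _ ⟨q, hq, c, hc, rfl⟩
        refine ⟨q⁻¹, Q.inv_mem hq, c⁻¹, R.inv_mem hc, ?_⟩
        have h := hcomm q⁻¹ (Q.inv_mem hq) c⁻¹ (R.inv_mem hc)
        rw [mul_inv_rev, h] }
  have h1 : Q ⊔ R ≤ T' :=
    sup_le (fun q hq => ⟨q, hq, 1, R.one_mem, (mul_one q).symm⟩)
      (fun c hc => ⟨1, Q.one_mem, c, hc, (one_mul c).symm⟩)
  exact h1 hs

theorem qr_unique (Q R : Subgroup G) (hint : Q ⊓ R = ⊥) {q q' c c' : G} (hq : q ∈ Q)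
    (hq' : q' ∈ Q) (hc : c ∈ R) (hc' : c' ∈ R) (h : q * c = q' * c') : q = q' ∧ c = c' := by
  have h1 : q'⁻¹ * q = c' * c⁻¹ := by
    calc q'⁻¹ * q = q'⁻¹ * (q * c) * c⁻¹ := by group
      _ = q'⁻¹ * (q' * c') * c⁻¹ := by rw [h]
      _ = c' * c⁻¹ := by group
  have h2 : q'⁻¹ * q ∈ Q ⊓ R :=
    ⟨Q.mul_mem (Q.inv_mem hq') hq, by rw [h1]; exact R.mul_mem hc' (R.inv_mem hc)⟩
  rw [hint, Subgroup.mem_bot] at h2
  have h3 : q = q' := (inv_mul_eq_one.1 h2).symm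
  refine ⟨h3, ?_⟩
  rw [h3] at h
  exact mul_left_cancel h

theorem qr_sq (Q R T : Subgroup G) (hcomm : ∀ a ∈ Q, ∀ b ∈ R, a * b = b * a)
    (hint : Q ⊓ R = ⊥) (hsup : Q ⊔ R = T) {s q₀ c₀ : G} (hs : s ∈ T) (hq₀ : q₀ ∈ Q)
    (hc₀ : c₀ ∈ R) (h : s * s = q₀ * c₀) :
    ∃ q ∈ Q, ∃ c ∈ R, s = q * c ∧ q * q = q₀ ∧ c * c = c₀ := by
  obtain ⟨q, hq, c, hc, rfl⟩ := qr_decomp Q R T hcomm hsup s hs
  have h1 : q * c * (q * c) = (q * q) * (c * c) := by
    have h0 := hcomm q hq c hc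
    calc q * c * (q * c) = q * (c * q) * c := by group
      _ = q * (q * c) * c := by rw [h0]
      _ = (q * q) * (c * c) := by group
  rw [h1] at h
  obtain ⟨e1, e2⟩ := qr_unique Q R hint (Q.mul_mem hq hq) hq₀ (R.mul_mem hc hc) hc₀ h
  exact ⟨q, hq, c, hc, rfl, e1, e2⟩

/-- the key counting step: a normalizing element cannot send the quaternion involution `z` to
`z * r'` with `1 ≠ r' ∈ R` -/
theorem qr_key [Finite G] (T Q R : Subgroup G) (hQT : Q ≤ T) (hRT : R ≤ T)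
    (hcomm : ∀ a ∈ Q, ∀ b ∈ R, a * b = b * a) (hint : Q ⊓ R = ⊥) (hsup : Q ⊔ R = T)
    (hRc : ∀ c ∈ R, c * c = 1 → ∀ s ∈ R, c * s = s * c)
    (z a₀ x : G) (hz : z ∈ Q) (ha₀ : a₀ ∈ Q) (hx : x ∈ Q) (ha₀z : a₀ * a₀ = z)
    (hxz : x * x = z) (hxa : x * a₀ * x⁻¹ = a₀⁻¹)
    (g : G) (hg : ∀ s, s ∈ T ↔ g * s * g⁻¹ ∈ T)
    (r' : G) (hr' : r' ∈ R) (hgz : g * z * g⁻¹ = z * r') : r' = 1 := by
  by_contra hr1
  have huT : g * a₀ * g⁻¹ ∈ T := (hg a₀).1 (hQT ha₀)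
  have hvT : g * x * g⁻¹ ∈ T := (hg x).1 (hQT hx)
  have huu : (g * a₀ * g⁻¹) * (g * a₀ * g⁻¹) = z * r' := by
    calc (g * a₀ * g⁻¹) * (g * a₀ * g⁻¹) = g * (a₀ * a₀) * g⁻¹ := by group
      _ = z * r' := by rw [ha₀z, hgz]
  have hvv : (g * x * g⁻¹) * (g * x * g⁻¹) = z * r' := by
    calc (g * x * g⁻¹) * (g * x * g⁻¹) = g * (x * x) * g⁻¹ := by group
      _ = z * r' := by rw [hxz, hgz]
  obtain ⟨q₁, hq₁, b₁, hb₁, hu, -, hb₁b⟩ := qr_sq Q R T hcomm hint hsup huT hz hr' huu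
  obtain ⟨q₂, hq₂, b₂, hb₂, hv, -, hb₂b⟩ := qr_sq Q R T hcomm hint hsup hvT hz hr' hvv
  have hvu : (g * x * g⁻¹) * (g * a₀ * g⁻¹) * (g * x * g⁻¹)⁻¹ = (g * a₀ * g⁻¹)⁻¹ := by
    calc (g * x * g⁻¹) * (g * a₀ * g⁻¹) * (g * x * g⁻¹)⁻¹ = g * (x * a₀ * x⁻¹) * g⁻¹ := by group
      _ = g * a₀⁻¹ * g⁻¹ := by rw [hxa]
      _ = (g * a₀ * g⁻¹)⁻¹ := by group
  have hb : b₂ * b₁ * b₂⁻¹ = b₁⁻¹ := by
    rw [hu, hv] at hvu
    have e1 : (b₁ * b₂⁻¹) * q₂⁻¹ = q₂⁻¹ * (b₁ * b₂⁻¹) :=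
      (hcomm q₂⁻¹ (Q.inv_mem hq₂) (b₁ * b₂⁻¹) (R.mul_mem hb₁ (R.inv_mem hb₂))).symm
    have e2 : b₂ * (q₁ * q₂⁻¹) = (q₁ * q₂⁻¹) * b₂ :=
      (hcomm (q₁ * q₂⁻¹) (Q.mul_mem hq₁ (Q.inv_mem hq₂)) b₂ hb₂).symm
    have e3 : q₂ * b₂ * (q₁ * b₁) * (q₂ * b₂)⁻¹ = (q₂ * q₁ * q₂⁻¹) * (b₂ * b₁ * b₂⁻¹) := by
      calc q₂ * b₂ * (q₁ * b₁) * (q₂ * b₂)⁻¹ = q₂ * b₂ * q₁ * ((b₁ * b₂⁻¹) * q₂⁻¹) := by group
        _ = q₂ * b₂ * q₁ * (q₂⁻¹ * (b₁ * b₂⁻¹)) := by rw [e1]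
        _ = q₂ * (b₂ * (q₁ * q₂⁻¹)) * (b₁ * b₂⁻¹) := by group
        _ = q₂ * ((q₁ * q₂⁻¹) * b₂) * (b₁ * b₂⁻¹) := by rw [e2]
        _ = (q₂ * q₁ * q₂⁻¹) * (b₂ * b₁ * b₂⁻¹) := by group
    have e4 : (q₁ * b₁)⁻¹ = q₁⁻¹ * b₁⁻¹ := by
      rw [mul_inv_rev]
      exact (hcomm q₁⁻¹ (Q.inv_mem hq₁) b₁⁻¹ (R.inv_mem hb₁)).symm
    rw [e3, e4] at hvu
    exact (qr_unique Q R hint (Q.mul_mem (Q.mul_mem hq₂ hq₁) (Q.inv_mem hq₂)) (Q.inv_mem hq₁)
      (R.mul_mem (R.mul_mem hb₂ hb₁) (R.inv_mem hb₂)) (R.inv_mem hb₁) hvu).2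
  -- elements of `T` with square `z`
  have hdec : ∀ s ∈ T, s * s = z → ∃ q ∈ Q, ∃ c ∈ R, s = q * c ∧ ∀ b ∈ R, c * b = b * c := by
    intro s hs hss
    obtain ⟨q, hq, c, hc, hsqc, -, hcc⟩ :=
      qr_sq Q R T hcomm hint hsup hs hz R.one_mem (by rw [mul_one]; exact hss)
    exact ⟨q, hq, c, hc, hsqc, hRc c hc hcc⟩
  have hsb : ∀ s ∈ T, s * s = z → ∀ b ∈ R, s * b = b * s := by
    intro s hs hss b hb'
    obtain ⟨q, hq, c, hc, rfl, hcb⟩ := hdec s hs hss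
    have h1 := hcb b hb'
    have h2 := hcomm q hq b hb'
    calc q * c * b = q * (c * b) := by group
      _ = q * (b * c) := by rw [h1]
      _ = (q * b) * c := by group
      _ = (b * q) * c := by rw [h2]
      _ = b * (q * c) := by group
  have hfm : ∀ s ∈ T, s * s = z → ∀ b ∈ R, b * b = r' →
      g⁻¹ * (s * b) * g ∈ T ∧ (g⁻¹ * (s * b) * g) * (g⁻¹ * (s * b) * g) = z := by
    intro s hs hss b hb' hbb
    refine ⟨?_, ?_⟩
    · apply (hg _).2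
      have h0 : g * (g⁻¹ * (s * b) * g) * g⁻¹ = s * b := by group
      rw [h0]
      exact T.mul_mem hs (hRT hb')
    · have h1 := hsb s hs hss b hb'
      have h2 : (s * b) * (s * b) = z * r' := by
        calc (s * b) * (s * b) = s * (b * s) * b := by group
          _ = s * (s * b) * b := by rw [h1]
          _ = (s * s) * (b * b) := by group
          _ = z * r' := by rw [hss, hbb]
      calc (g⁻¹ * (s * b) * g) * (g⁻¹ * (s * b) * g) = g⁻¹ * ((s * b) * (s * b)) * g := by group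
        _ = g⁻¹ * (g * z * g⁻¹) * g := by rw [h2, hgz]
        _ = z := by group
  have hdisj : ∀ s ∈ T, s * s = z → ∀ s' ∈ T, s' * s' = z → s * b₁ ≠ s' * b₂ := by
    intro s hs hss s' hs' hss' h
    obtain ⟨q, hq, c, hc, rfl, hcb⟩ := hdec s hs hss
    obtain ⟨q', hq', c', hc', rfl, hcb'⟩ := hdec s' hs' hss'
    have h1 : q * (c * b₁) = q' * (c' * b₂) := by rw [← mul_assoc, ← mul_assoc]; exact h
    have h2 := (qr_unique Q R hint hq hq' (R.mul_mem hc hb₁) (R.mul_mem hc' hb₂) h1).2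
    have h3 : b₂ = c'⁻¹ * (c * b₁) := by rw [h2]; group
    have h4 : b₁ * c'⁻¹ = c'⁻¹ * b₁ := by
      have h5 := hcb' b₁ hb₁
      calc b₁ * c'⁻¹ = c'⁻¹ * (c' * b₁) * c'⁻¹ := by group
        _ = c'⁻¹ * (b₁ * c') * c'⁻¹ := by rw [h5]
        _ = c'⁻¹ * b₁ := by group
    have h6 : b₂ * b₁ = b₁ * b₂ := by
      rw [h3]
      have h7 := hcb b₁ hb₁
      calc c'⁻¹ * (c * b₁) * b₁ = c'⁻¹ * (b₁ * c) * b₁ := by rw [h7]
        _ = (c'⁻¹ * b₁) * (c * b₁) := by group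
        _ = (b₁ * c'⁻¹) * (c * b₁) := by rw [h4]
        _ = b₁ * (c'⁻¹ * (c * b₁)) := by group
    have h8 : b₂ * b₁ * b₂⁻¹ = b₁ := by rw [h6]; group
    rw [hb] at h8
    have h9 : b₁ * b₁ = 1 := by
      calc b₁ * b₁ = b₁ * b₁⁻¹ := by rw [h8]
        _ = 1 := mul_inv_cancel b₁
    exact hr1 (hb₁b.symm.trans h9)
  -- the injection
  obtain ⟨bs, hbs⟩ : ∃ bs : Bool → G, bs true = b₁ ∧ bs false = b₂ :=
    ⟨fun i => cond i b₁ b₂, rfl, rfl⟩
  have hbsR : ∀ i, bs i ∈ R := by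
    intro i; cases i
    · rw [hbs.2]; exact hb₂
    · rw [hbs.1]; exact hb₁
  have hbsq : ∀ i, bs i * bs i = r' := by
    intro i; cases i
    · rw [hbs.2]; exact hb₂b
    · rw [hbs.1]; exact hb₁b
  let f : {s : G // s ∈ T ∧ s * s = z} × Bool → {s : G // s ∈ T ∧ s * s = z} :=
    fun p => ⟨g⁻¹ * (p.1.1 * bs p.2) * g, hfm p.1.1 p.1.2.1 p.1.2.2 (bs p.2) (hbsR p.2) (hbsq p.2)⟩
  have hf : Function.Injective f := by
    rintro ⟨⟨s, hs, hss⟩, i⟩ ⟨⟨s', hs', hss'⟩, i'⟩ h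
    have h1 : g⁻¹ * (s * bs i) * g = g⁻¹ * (s' * bs i') * g := congrArg Subtype.val h
    have h2 : s * bs i = s' * bs i' := mul_left_cancel (mul_right_cancel h1)
    cases i <;> cases i'
    · have h3 : s = s' := mul_right_cancel h2
      subst h3; rfl
    · exfalso
      rw [hbs.1, hbs.2] at h2
      exact hdisj s' hs' hss' s hs hss h2.symm
    · exfalso
      rw [hbs.1, hbs.2] at h2
      exact hdisj s hs hss s' hs' hss' h2
    · have h3 : s = s' := mul_right_cancel h2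
      subst h3; rfl
  have hcard := Nat.card_le_card_of_injective f hf
  rw [Nat.card_prod, Nat.card_eq_fintype_card (α := Bool), Fintype.card_bool] at hcard
  haveI : Nonempty {s : G // s ∈ T ∧ s * s = z} := ⟨⟨a₀, hQT ha₀, ha₀z⟩⟩
  have hpos : 0 < Nat.card {s : G // s ∈ T ∧ s * s = z} := Nat.card_pos
  omega

end DirProd

/-- A finite group whose Sylow 2-subgroup is `Q × R` with `Q` generalized quaternion and all
involutions of `R` central in `R` is not simple. -/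
theorem qr_not_simple {G : Type*} [Group G] [Finite G] (S : Sylow 2 G) (Q R : Subgroup G)
    (hQR : Cfsg.IsInternalDirectProduct Q R (S : Subgroup G)) (k j : ℕ) (hkj : k = j + j)
    (hj : 1 ≤ j) (eQ : ↥Q ≃* QuaternionGroup k)
    (hR : ∀ r ∈ R, orderOf r = 2 → ∀ s ∈ R, r * s = s * r) : ¬ IsSimpleGroup G := by
  classical
  obtain ⟨hQS, hRS, hcomm, hint, hsup⟩ := hQR
  haveI : Fact (Nat.Prime 2) := ⟨Nat.prime_two⟩
  have hk0 : 0 < k := by omega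
  have hk2 : 2 ≤ k := by omega
  have hRc : ∀ c ∈ R, c * c = 1 → ∀ s ∈ R, c * s = s * c := by
    intro c hc hcc s hs
    by_cases h1 : c = 1
    · rw [h1, one_mul, mul_one]
    · exact hR c hc (orderOf_eq_prime (by rw [pow_two]; exact hcc) h1) s hs
  obtain ⟨z, hzdef⟩ : ∃ z, z = gqIota eQ := ⟨_, rfl⟩
  have hzQ : z ∈ Q := hzdef ▸ gqIota_mem eQ
  have hzz : z * z = 1 := hzdef ▸ gqIota_sq eQ
  have hz1 : z ≠ 1 := hzdef ▸ gqIota_ne_one hk0 eQ
  have hzc : ∀ u ∈ Q, u * z = z * u := fun u hu => hzdef ▸ gqIota_central eQ hu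
  have hQinv : ∀ u ∈ Q, u * u = 1 → u = 1 ∨ u = z := fun u hu h => hzdef ▸ gq_invol hk0 eQ hu h
  -- generators of `Q`
  obtain ⟨a₀', x', h1, h2, h3⟩ := qr_quat_gens hkj
  have ha₀z : ((eQ.symm a₀' : ↥Q) : G) * ((eQ.symm a₀' : ↥Q) : G) = z := by
    have h0 : eQ.symm a₀' * eQ.symm a₀' = eQ.symm (QuaternionGroup.a k) := by rw [← map_mul, h1]
    rw [hzdef]
    exact congrArg Subtype.val h0
  have hxz : ((eQ.symm x' : ↥Q) : G) * ((eQ.symm x' : ↥Q) : G) = z := by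
    have h0 : eQ.symm x' * eQ.symm x' = eQ.symm (QuaternionGroup.a k) := by rw [← map_mul, h2]
    rw [hzdef]
    exact congrArg Subtype.val h0
  have hxa : ((eQ.symm x' : ↥Q) : G) * ((eQ.symm a₀' : ↥Q) : G) * ((eQ.symm x' : ↥Q) : G)⁻¹
      = ((eQ.symm a₀' : ↥Q) : G)⁻¹ := by
    have h0 : eQ.symm x' * eQ.symm a₀' * (eQ.symm x')⁻¹ = (eQ.symm a₀')⁻¹ := by
      rw [← map_inv, ← map_mul, ← map_mul, h3, map_inv]
    exact congrArg Subtype.val h0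
  -- involutions of `S`
  have hinvS : ∀ t ∈ (S : Subgroup G), t * t = 1 →
      ∃ q ∈ Q, ∃ c ∈ R, t = q * c ∧ (q = 1 ∨ q = z) ∧ c * c = 1 := by
    intro t ht htt
    obtain ⟨q, hq, c, hc, hqc, hqq, hcc⟩ :=
      qr_sq Q R (S : Subgroup G) hcomm hint hsup ht Q.one_mem R.one_mem (by rw [mul_one]; exact htt)
    exact ⟨q, hq, c, hc, hqc, hQinv q hq hqq, hcc⟩
  have hcent : ∀ t ∈ (S : Subgroup G), t * t = 1 → ∀ s ∈ (S : Subgroup G), s * t = t * s := by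
    intro t ht htt s hs
    obtain ⟨q, hq, c, hc, rfl, hq1, hcc⟩ := hinvS t ht htt
    obtain ⟨q', hq', c', hc', rfl⟩ := qr_decomp Q R (S : Subgroup G) hcomm hsup s hs
    have hqc : ∀ u ∈ Q, u * q = q * u := by
      intro u hu
      rcases hq1 with h | h
      · rw [h, mul_one, one_mul]
      · rw [h]; exact hzc u hu
    have e1 : c' * q = q * c' := (hcomm q hq c' hc').symm
    have e2 : q' * q = q * q' := hqc q' hq'
    have e3 : c' * c = c * c' := (hRc c hc hcc c' hc').symm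
    have e4 : q' * c = c * q' := hcomm q' hq' c hc
    calc q' * c' * (q * c) = q' * (c' * q) * c := by group
      _ = q' * (q * c') * c := by rw [e1]
      _ = (q' * q) * (c' * c) := by group
      _ = (q * q') * (c * c') := by rw [e2, e3]
      _ = q * (q' * c) * c' := by group
      _ = q * (c * q') * c' := by rw [e4]
      _ = q * c * (q' * c') := by group
  -- the elementary abelian subgroup of all involutions of `S`
  obtain ⟨E, hE⟩ : ∃ E : Subgroup G, ∀ t : G, t ∈ E ↔ t ∈ (S : Subgroup G) ∧ t * t = 1 := by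
    refine ⟨{ carrier := {t | t ∈ (S : Subgroup G) ∧ t * t = 1}
              mul_mem' := ?_
              one_mem' := ⟨Subgroup.one_mem _, mul_one 1⟩
              inv_mem' := ?_ }, fun t => Iff.rfl⟩
    · rintro t t' ⟨ht, htt⟩ ⟨ht', htt'⟩
      refine ⟨Subgroup.mul_mem _ ht ht', ?_⟩
      have h0 := hcent t' ht' htt' t ht
      calc t * t' * (t * t') = t * (t' * t) * t' := by group
        _ = t * (t * t') * t' := by rw [h0]
        _ = (t * t) * (t' * t') := by group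
        _ = 1 := by rw [htt, htt', mul_one]
    · rintro t ⟨ht, htt⟩
      refine ⟨Subgroup.inv_mem _ ht, ?_⟩
      rw [← mul_inv_rev, htt, inv_one]
  have hEc : ∀ a ∈ E, ∀ b ∈ E, a * b = b * a := fun a ha b hb =>
    hcent b ((hE b).1 hb).1 ((hE b).1 hb).2 a ((hE a).1 ha).1
  have hNE : ∀ n ∈ Subgroup.normalizer ((S : Subgroup G) : Set G), ∀ e ∈ E, n * e * n⁻¹ ∈ E := by
    intro n hn e he
    rw [hE]
    refine ⟨(Subgroup.mem_normalizer_iff.1 hn e).1 ((hE e).1 he).1, ?_⟩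
    calc n * e * n⁻¹ * (n * e * n⁻¹) = n * (e * e) * n⁻¹ := by group
      _ = 1 := by rw [((hE e).1 he).2]; group
  have hzE : z ∈ E := (hE z).2 ⟨hQS hzQ, hzz⟩
  have hK : ∀ n ∈ Subgroup.normalizer ((S : Subgroup G) : Set G), n * z * n⁻¹ ≠ z →
      n * z * n⁻¹ ∈ R := by
    intro n hn hne
    have htE := (hE _).1 (hNE n hn z hzE)
    obtain ⟨q, hq, c, hc, hqc, hq1, hcc⟩ := hinvS _ htE.1 htE.2
    rcases hq1 with h | h
    · rw [hqc, h, one_mul]; exact hc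
    · exfalso
      rw [h] at hqc
      have hc1 := qr_key (S : Subgroup G) Q R hQS hRS hcomm hint hsup hRc z _ _ hzQ
        (eQ.symm a₀').2 (eQ.symm x').2 ha₀z hxz hxa n (Subgroup.mem_normalizer_iff.1 hn) c hc hqc
      apply hne
      rw [hqc, hc1, mul_one]
  obtain ⟨w, hwE, hwN, hwK⟩ := qr_orbit_prod E (Subgroup.normalizer ((S : Subgroup G) : Set G))
    hEc hNE z hzE R hK
  have hwS : w ∈ (S : Subgroup G) := ((hE w).1 hwE).1
  have hww : w * w = 1 := ((hE w).1 hwE).2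
  have hw1 : w ≠ 1 := by
    intro h
    rw [h, mul_one] at hwK
    have hzR : z ∈ R := by
      have := R.inv_mem hwK
      rwa [inv_inv] at this
    have hzb : z ∈ Q ⊓ R := ⟨hzQ, hzR⟩
    rw [hint, Subgroup.mem_bot] at hzb
    exact hz1 hzb
  have hw2 : orderOf w = 2 := orderOf_eq_prime (by rw [pow_two]; exact hww) hw1
  have hw_wc : ∀ g : G, g * w * g⁻¹ ∈ (S : Subgroup G) → g * w * g⁻¹ = w := by
    intro g hg
    have hwC : w ∈ Subgroup.centralizer ((S : Subgroup G) : Set G) :=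
      Subgroup.mem_centralizer_iff.2 (fun s hs => hcent w hwS hww s hs)
    have ht : (g * w * g⁻¹) * (g * w * g⁻¹) = 1 := by
      calc (g * w * g⁻¹) * (g * w * g⁻¹) = g * (w * w) * g⁻¹ := by group
        _ = 1 := by rw [hww]; group
    have hgC : g⁻¹⁻¹ * w * g⁻¹ ∈ Subgroup.centralizer ((S : Subgroup G) : Set G) := by
      rw [inv_inv]
      exact Subgroup.mem_centralizer_iff.2 (fun s hs => hcent _ hg ht s hs)
    obtain ⟨n, hn, hn'⟩ := Sylow.conj_eq_normalizer_conj_of_mem_centralizer S w g⁻¹ hwC hgC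
    rw [inv_inv] at hn'
    rw [hn']
    have h0 := hwN n⁻¹ (Subgroup.inv_mem _ hn)
    rw [inv_inv] at h0
    exact h0
  have hI : IsIsolatedInvolution w :=
    ⟨hw2, fun g hc => Cfsg.Agent.Helper2.isolated_eq_of_commute S w hw2 hw_wc g hc.eq⟩
  obtain ⟨N₀, hN₀, hN₀odd, hN₀c⟩ := zstar_main G w hI
  intro hsimple
  rcases hsimple.eq_bot_or_eq_top_of_normal N₀ hN₀ with h | h
  · have hwc : w ∈ Subgroup.center G := by
      rw [Subgroup.mem_center_iff]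
      intro g
      have h1 := hN₀c g
      rw [h, Subgroup.mem_bot] at h1
      calc g * w = (w * g * w⁻¹ * g⁻¹)⁻¹ * (w * g) := by group
        _ = w * g := by rw [h1]; group
    rcases hsimple.eq_bot_or_eq_top_of_normal (Subgroup.center G) inferInstance with h' | h'
    · rw [h', Subgroup.mem_bot] at hwc
      exact hw1 hwc
    · obtain ⟨g₁, hg₁, g₂, hg₂, hne⟩ := gq_noncomm hk2 eQ
      apply hne
      have h5 : g₂ ∈ Subgroup.center G := by rw [h']; exact Subgroup.mem_top _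
      exact Subgroup.mem_center_iff.1 h5 g₁
  · rw [h, Subgroup.card_top] at hN₀odd
    have h2 : 2 ∣ Nat.card G := hw2 ▸ orderOf_dvd_natCard w
    exact (Nat.not_even_iff_odd.2 hN₀odd) (even_iff_two_dvd.2 h2)

end Cfsg.Agent.Helper8
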