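import Mathlib
import Cfsg.Agent.Helper8.WrCalc
import Cfsg.Agent.Helper8.ZStarGen
import Cfsg.Agent.Helper8.CharInv

set_option autoImplicit false

namespace Cfsg.Agent.Helper8

open Cfsg

section

variable {X : Type*} [Group X] [Finite X]

/-- Sylow adjustment: a 2-subgroup centralizing a conjugate `v` of a central element `u` of `S`
can be conjugated into `S` while sending `v` back to `u` -/
theorem wrf_lemA (S : Sylow 2 X) (u v g : X)
    (huZ : ∀ s ∈ (S : Subgroup X), s * u = u * s) (hg : g * u * g⁻¹ = v)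
    (B : Subgroup X) (hB : IsPGroup 2 B) (hBv : ∀ b ∈ B, b * v = v * b) :
    ∃ g' : X, g' * u * g'⁻¹ = v ∧ ∀ b ∈ B, g'⁻¹ * b * g' ∈ (S : Subgroup X) := by
  have hfact : Fact (Nat.Prime 2) := ⟨Nat.prime_two⟩
  obtain ⟨K, hK⟩ : ∃ K : Subgroup X, K = Subgroup.centralizer ({v} : Set X) := ⟨_, rfl⟩
  have hmemK : ∀ y : X, y ∈ K ↔ y * v = v * y := by
    intro y; rw [hK]; exact Subgroup.mem_centralizer_singleton_iff
  have hTK : ((g • S : Sylow 2 X) : Subgroup X) ≤ K := by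
    intro q hq
    have hq' : g⁻¹ * q * g ∈ (S : Subgroup X) :=
      (Cfsg.Agent.Helper2.mem_sylow_smul_iff g S q).1 hq
    rw [hmemK]
    have h1 := huZ _ hq'
    rw [← hg]
    calc q * (g * u * g⁻¹) = g * ((g⁻¹ * q * g) * u) * g⁻¹ := by group
      _ = g * (u * (g⁻¹ * q * g)) * g⁻¹ := by rw [h1]
      _ = g * u * g⁻¹ * q := by group
  have hBK : B ≤ K := fun b hb => (hmemK b).2 (hBv b hb)
  have hP₀ : IsPGroup 2 (B.subgroupOf K) := hB.comap_subtype
  obtain ⟨Q, hQ⟩ := hP₀.exists_le_sylow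
  obtain ⟨k, hk⟩ := MulAction.exists_smul_eq ↥K ((g • S).subtype hTK) Q
  refine ⟨k * g, ?_, ?_⟩
  · have hkv : (k : X) * v = v * (k : X) := (hmemK k).1 k.2
    calc (k : X) * g * u * ((k : X) * g)⁻¹ = k * (g * u * g⁻¹) * (k : X)⁻¹ := by group
      _ = k * v * (k : X)⁻¹ := by rw [hg]
      _ = v := by rw [hkv]; group
  · intro b hb
    have h1 : (⟨b, hBK hb⟩ : K) ∈ Q := hQ (Subgroup.mem_subgroupOf.2 hb)
    rw [← hk] at h1
    have h1' := (Cfsg.Agent.Helper2.mem_sylow_smul_iff k ((g • S).subtype hTK) _).1 h1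
    have h2' : (k : X)⁻¹ * b * k ∈ ((g • S : Sylow 2 X) : Subgroup X) := h1'
    have h2 := (Cfsg.Agent.Helper2.mem_sylow_smul_iff g S _).1 h2'
    have h4 : ((k : X) * g)⁻¹ * b * ((k : X) * g) = g⁻¹ * ((k : X)⁻¹ * b * k) * g := by group
    rw [h4]; exact h2

/-- the 2-part trick: if `g` normalizes the 2-group generated by `T ⊆ S` and a 2-power of `g`
centralizes `T`, the action of `g` on `T` is realized inside a Sylow 2-subgroup -/
theorem wrf_two_part (S : Sylow 2 X) (T : Set X) (g : X) (j : ℕ)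
    (hTS : ∀ a ∈ T, a ∈ (S : Subgroup X))
    (hnorm : ∀ a ∈ T, g * a * g⁻¹ ∈ Subgroup.closure T)
    (hcent : ∀ a ∈ T, g ^ (2 ^ j) * a * (g ^ (2 ^ j))⁻¹ = a) :
    ∃ m s : X, s ∈ (S : Subgroup X) ∧ (∀ a ∈ T, m⁻¹ * a * m ∈ (S : Subgroup X)) ∧
      ∀ a ∈ T, s * (m⁻¹ * a * m) * s⁻¹ = m⁻¹ * (g * a * g⁻¹) * m := by
  have hfact : Fact (Nat.Prime 2) := ⟨Nat.prime_two⟩
  have hVS : Subgroup.closure T ≤ (S : Subgroup X) := (Subgroup.closure_le _).2 hTS
  have hV2 : IsPGroup 2 (Subgroup.closure T) := S.2.to_le hVS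
  -- decompose the order of g
  have hN : orderOf g ≠ 0 := (orderOf_pos g).ne'
  obtain ⟨a, r, hr, hNar⟩ := Nat.exists_eq_two_pow_mul_odd hN
  have hcop : Nat.Coprime r (2 ^ (j + 1)) :=
    Nat.Coprime.pow_right _ (Nat.coprime_two_right.2 hr)
  have h1lt : 1 < 2 ^ (j + 1) := Nat.one_lt_two_pow (by omega)
  obtain ⟨i, -, hi⟩ := Nat.exists_mul_mod_eq_one_of_coprime hcop h1lt
  obtain ⟨q, hri⟩ : ∃ q, r * i = 1 + 2 ^ (j + 1) * q := by
    refine ⟨r * i / 2 ^ (j + 1), ?_⟩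
    have h := Nat.div_add_mod (r * i) (2 ^ (j + 1))
    rw [hi] at h
    omega
  -- the 2-part
  set g₂ := g ^ (r * i) with hg₂
  have hg₂pow : g₂ ^ (2 ^ a) = 1 := by
    rw [hg₂, ← pow_mul]
    have h : r * i * 2 ^ a = orderOf g * i := by rw [hNar]; ring
    rw [h, pow_mul, pow_orderOf_eq_one, one_pow]
  -- g₂ = g * c with c centralizing T
  have hcent' : ∀ a ∈ T, g ^ (2 ^ (j + 1) * q) * a * (g ^ (2 ^ (j + 1) * q))⁻¹ = a := by
    intro a ha
    have h0 := hcent a ha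
    have h1 : ∀ e : ℕ, (g ^ (2 ^ j)) ^ e * a * ((g ^ (2 ^ j)) ^ e)⁻¹ = a := by
      intro e
      induction e with
      | zero => simp
      | succ e ih =>
        calc (g ^ (2 ^ j)) ^ (e + 1) * a * ((g ^ (2 ^ j)) ^ (e + 1))⁻¹
            = (g ^ (2 ^ j)) ^ e * (g ^ (2 ^ j) * a * (g ^ (2 ^ j))⁻¹) * ((g ^ (2 ^ j)) ^ e)⁻¹ := by
              rw [pow_succ]; group
          _ = a := by rw [h0, ih]
    have h2 : g ^ (2 ^ (j + 1) * q) = (g ^ (2 ^ j)) ^ (2 * q) := by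
      rw [← pow_mul, pow_succ]; congr 1; ring
    rw [h2]
    exact h1 _
  have hg₂T : ∀ a ∈ T, g₂ * a * g₂⁻¹ = g * a * g⁻¹ := by
    intro a ha
    have h1 : g₂ = g * g ^ (2 ^ (j + 1) * q) := by
      rw [hg₂, hri, pow_add, pow_one]
    rw [h1]
    calc g * g ^ (2 ^ (j + 1) * q) * a * (g * g ^ (2 ^ (j + 1) * q))⁻¹
        = g * (g ^ (2 ^ (j + 1) * q) * a * (g ^ (2 ^ (j + 1) * q))⁻¹) * g⁻¹ := by group
      _ = g * a * g⁻¹ := by rw [hcent' a ha]
  -- g₂ normalizes the closure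
  have hfwd : ∀ v ∈ Subgroup.closure T, g₂ * v * g₂⁻¹ ∈ Subgroup.closure T := by
    intro v hv
    have hle : Subgroup.closure T ≤
        (Subgroup.closure T).comap (MulAut.conj g₂).toMonoidHom := by
      rw [Subgroup.closure_le]
      intro a ha
      show g₂ * a * g₂⁻¹ ∈ Subgroup.closure T
      rw [hg₂T a ha]
      exact hnorm a ha
    exact hle hv
  have hiter : ∀ e : ℕ, ∀ v ∈ Subgroup.closure T, g₂ ^ e * v * (g₂ ^ e)⁻¹ ∈ Subgroup.closure T := by
    intro e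
    induction e with
    | zero => intro v hv; simpa using hv
    | succ e ih =>
      intro v hv
      have h1 : g₂ ^ (e + 1) * v * (g₂ ^ (e + 1))⁻¹ = g₂ ^ e * (g₂ * v * g₂⁻¹) * (g₂ ^ e)⁻¹ := by
        rw [pow_succ]; group
      rw [h1]
      exact ih _ (hfwd v hv)
  have hg₂inv : g₂ ^ (2 ^ a - 1) = g₂⁻¹ := by
    apply eq_inv_of_mul_eq_one_left
    rw [← pow_succ, Nat.sub_add_cancel (Nat.one_le_two_pow), hg₂pow]
  have hg₂N : g₂ ∈ Subgroup.normalizer ((Subgroup.closure T : Subgroup X) : Set X) := by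
    rw [Subgroup.mem_normalizer_iff]
    intro v
    refine ⟨hfwd v, fun h => ?_⟩
    have h1 := hiter (2 ^ a - 1) _ h
    rw [hg₂inv] at h1
    have h2 : g₂⁻¹ * (g₂ * v * g₂⁻¹) * g₂⁻¹⁻¹ = v := by group
    rwa [h2] at h1
  have hZ2 : IsPGroup 2 (Subgroup.zpowers g₂) := by
    intro h
    obtain ⟨h, e, rfl⟩ := h
    refine ⟨a, ?_⟩
    apply Subtype.ext
    show (g₂ ^ e) ^ (2 ^ a) = 1
    rw [← zpow_natCast, ← zpow_mul, mul_comm, zpow_mul, zpow_natCast, hg₂pow, one_zpow]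
  have hH2 : IsPGroup 2 (Subgroup.zpowers g₂ ⊔ Subgroup.closure T : Subgroup X) :=
    IsPGroup.to_sup_of_normal_right' hZ2 hV2 (Subgroup.zpowers_le.2 hg₂N)
  obtain ⟨Q, hQ⟩ := hH2.exists_le_sylow
  obtain ⟨m, hm⟩ := MulAction.exists_smul_eq X S Q
  have hconj : ∀ h ∈ (Subgroup.zpowers g₂ ⊔ Subgroup.closure T : Subgroup X),
      m⁻¹ * h * m ∈ (S : Subgroup X) := by
    intro h hh
    have h1 := hQ hh
    rw [← hm] at h1
    exact (Cfsg.Agent.Helper2.mem_sylow_smul_iff m S h).1 h1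
  refine ⟨m, m⁻¹ * g₂ * m, hconj _ (Subgroup.mem_sup_left (Subgroup.mem_zpowers g₂)),
    fun a ha => hconj _ (Subgroup.mem_sup_right (Subgroup.subset_closure ha)), fun a ha => ?_⟩
  rw [← hg₂T a ha]
  group

end

section wreathed

variable {X : Type*} [Group X] [Finite X] (S : Sylow 2 X) {x y t : X} {n : ℕ}
  (D : WrData (S : Subgroup X) x y t n)
include D

/-- a conjugate of the base group `A = ⟨x⟩ × ⟨y⟩` inside `S` is `A` -/
theorem wrf_uniqA (h : X) (hxS : h * x * h⁻¹ ∈ (S : Subgroup X))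
    (hyS : h * y * h⁻¹ ∈ (S : Subgroup X)) :
    (∃ i j : ℤ, h * x * h⁻¹ = x ^ i * y ^ j) ∧ (∃ i j : ℤ, h * y * h⁻¹ = x ^ i * y ^ j) := by
  have hcomm : (h * x * h⁻¹) * (h * y * h⁻¹) = (h * y * h⁻¹) * (h * x * h⁻¹) := by
    calc (h * x * h⁻¹) * (h * y * h⁻¹) = h * (x * y) * h⁻¹ := by group
      _ = h * (y * x) * h⁻¹ := by rw [D.hxy]
      _ = (h * y * h⁻¹) * (h * x * h⁻¹) := by group
  have hxo : (h * x * h⁻¹) ^ (2 ^ n) = 1 := by rw [conj_pow, D.x_pow]; group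
  have hyo : (h * y * h⁻¹) ^ (2 ^ n) = 1 := by rw [conj_pow, D.y_pow]; group
  have hxc : (h * x * h⁻¹) ^ (2 ^ (n - 1)) = h * wrC x n * h⁻¹ := by
    rw [conj_pow, WrData.wrC_eq_pow]
  have hyc : (h * y * h⁻¹) ^ (2 ^ (n - 1)) = h * wrC y n * h⁻¹ := by
    rw [conj_pow, WrData.wrC_eq_pow]
  have hne : h * wrC x n * h⁻¹ ≠ h * wrC y n * h⁻¹ := by
    intro he
    exact D.c_ne_c' (mul_left_cancel (mul_right_cancel he))
  have hcne : h * wrC x n * h⁻¹ ≠ 1 := by
    intro he; exact D.c_ne (conj_eq_one_iff.1 he)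
  have hc'ne : h * wrC y n * h⁻¹ ≠ 1 := by
    intro he; exact D.c'_ne (conj_eq_one_iff.1 he)
  have key : ∀ p q : ℤ, (h * x * h⁻¹ = x ^ p * y ^ q * t ∨ h * y * h⁻¹ = x ^ p * y ^ q * t) →
      False := by
    intro p q hb
    have h1 : (h * x * h⁻¹) * (x ^ p * y ^ q * t) = x ^ p * y ^ q * t * (h * x * h⁻¹) := by
      rcases hb with hb | hb
      · rw [← hb]
      · rw [← hb]; exact hcomm
    have h2 : (h * y * h⁻¹) * (x ^ p * y ^ q * t) = x ^ p * y ^ q * t * (h * y * h⁻¹) := by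
      rcases hb with hb | hb
      · rw [← hb]; exact hcomm.symm
      · rw [← hb]
    have h3 := D.cent_pow p q _ hxS h1 hxo
    have h4 := D.cent_pow p q _ hyS h2 hyo
    rw [hxc] at h3
    rw [hyc] at h4
    rcases h3 with h3 | h3
    · exact hcne h3
    · rcases h4 with h4 | h4
      · exact hc'ne h4
      · exact hne (h3.trans h4.symm)
  constructor
  · obtain ⟨i, j, hij | hij⟩ := D.hform _ hxS
    · exact ⟨i, j, hij⟩
    · exact (key i j (Or.inl hij)).elim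
  · obtain ⟨i, j, hij | hij⟩ := D.hform _ hyS
    · exact ⟨i, j, hij⟩
    · exact (key i j (Or.inr hij)).elim

/-- no element of `S` other than `z` is conjugate to the isolated involution `z` -/
theorem wrf_NZ (hz : IsIsolatedInvolution (wrC x n * wrC y n)) (τ m : X)
    (hτ : τ ∈ (S : Subgroup X)) (h : m⁻¹ * τ * m = wrC x n * wrC y n) :
    τ = wrC x n * wrC y n := by
  have h1 : τ = m * (wrC x n * wrC y n) * m⁻¹ := by rw [← h]; group
  have h2 : Commute (wrC x n * wrC y n) (m * (wrC x n * wrC y n) * m⁻¹) := by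
    rw [← h1]; exact (D.z_central τ hτ).symm
  rw [h1]; exact hz.2 m h2

/-- conjugates of `c`, `c'` under an element normalizing the base group -/
theorem wrf_conj_inv (hz : IsIsolatedInvolution (wrC x n * wrC y n)) (h a b : X) (e : ℕ)
    (haS : a ∈ (S : Subgroup X)) (ha2 : a * a = 1) (ha1 : a ≠ 1)
    (haz : a ≠ wrC x n * wrC y n) (hb : ∃ i j : ℤ, h * b * h⁻¹ = x ^ i * y ^ j)
    (hab : a = b ^ e) : h * a * h⁻¹ = wrC x n ∨ h * a * h⁻¹ = wrC y n := by
  obtain ⟨i, j, hij⟩ := hb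
  have h1 : h * a * h⁻¹ = x ^ (i * (e : ℤ)) * y ^ (j * (e : ℤ)) := by
    rw [hab, ← conj_pow, hij, D.a_pow]
  have h2 : (h * a * h⁻¹) * (h * a * h⁻¹) = 1 := by
    calc (h * a * h⁻¹) * (h * a * h⁻¹) = h * (a * a) * h⁻¹ := by group
      _ = 1 := by rw [ha2]; group
  rw [h1] at h2
  rcases D.a_inv_class _ _ h2 with h3 | h3 | h3 | h3
  · exfalso
    rw [← h1] at h3
    exact ha1 (conj_eq_one_iff.1 h3)
  · left; rw [h1, h3]
  · right; rw [h1, h3]
  · exfalso
    rw [← h1] at h3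
    apply haz
    apply wrf_NZ S D hz a h⁻¹ haS
    rw [inv_inv]; exact h3

/-- Case A: a central element `u` of `S` is not conjugate to `u c` or `u c'` -/
theorem wrf_caseA (hz : IsIsolatedInvolution (wrC x n * wrC y n)) (i : ℤ) (c₁ : X)
    (hc₁ : c₁ = wrC x n ∨ c₁ = wrC y n) (g : X)
    (hg : g * (x ^ i * y ^ i) * g⁻¹ = x ^ i * y ^ i * c₁) : False := by
  have hfact : Fact (Nat.Prime 2) := ⟨Nat.prime_two⟩
  have huZ : ∀ s ∈ (S : Subgroup X), s * (x ^ i * y ^ i) = x ^ i * y ^ i * s :=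
    fun s hs => D.diag_central i s hs
  have huS : x ^ i * y ^ i ∈ (S : Subgroup X) := mul_mem (zpow_mem D.hxS _) (zpow_mem D.hyS _)
  have hc₁S : c₁ ∈ (S : Subgroup X) := by
    rcases hc₁ with rfl | rfl
    · exact D.cS
    · exact D.c'S
  have hc₁2 : c₁ * c₁ = 1 := by
    rcases hc₁ with rfl | rfl
    · exact D.c_sq
    · exact D.c'_sq
  have hxc₁ : x * c₁ = c₁ * x := by
    rcases hc₁ with rfl | rfl
    · exact ((Commute.refl x).zpow_right _).eq
    · exact ((show Commute x y from D.hxy).zpow_right _).eq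
  have hyc₁ : y * c₁ = c₁ * y := by
    rcases hc₁ with rfl | rfl
    · exact ((show Commute y x from D.hxy.symm).zpow_right _).eq
    · exact ((Commute.refl y).zpow_right _).eq
  have hBv : ∀ b ∈ Subgroup.closure ({x, y} : Set X),
      b * (x ^ i * y ^ i * c₁) = x ^ i * y ^ i * c₁ * b := by
    have hle : Subgroup.closure ({x, y} : Set X) ≤
        Subgroup.centralizer ({x ^ i * y ^ i * c₁} : Set X) := by
      rw [Subgroup.closure_le]
      intro b hb
      rw [SetLike.mem_coe, Subgroup.mem_centralizer_singleton_iff]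
      rcases hb with rfl | rfl
      · calc b * (b ^ i * y ^ i * c₁) = (b * (b ^ i * y ^ i)) * c₁ := by group
          _ = (b ^ i * y ^ i * b) * c₁ := by rw [huZ b D.hxS]
          _ = b ^ i * y ^ i * (b * c₁) := by group
          _ = b ^ i * y ^ i * c₁ * b := by rw [hxc₁]; group
      · calc b * (x ^ i * b ^ i * c₁) = (b * (x ^ i * b ^ i)) * c₁ := by group
          _ = (x ^ i * b ^ i * b) * c₁ := by rw [huZ b D.hyS]
          _ = x ^ i * b ^ i * (b * c₁) := by group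
          _ = x ^ i * b ^ i * c₁ * b := by rw [hyc₁]; group
    intro b hb
    exact Subgroup.mem_centralizer_singleton_iff.1 (hle hb)
  have hBS : Subgroup.closure ({x, y} : Set X) ≤ (S : Subgroup X) := by
    rw [Subgroup.closure_le]
    intro b hb
    rcases hb with rfl | rfl
    · exact D.hxS
    · exact D.hyS
  obtain ⟨g', hg', hB'⟩ := wrf_lemA S _ _ g huZ hg _ (S.2.to_le hBS) hBv
  have hx' : g'⁻¹ * x * g'⁻¹⁻¹ ∈ (S : Subgroup X) := by
    rw [inv_inv]; exact hB' x (Subgroup.subset_closure (by simp))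
  have hy' : g'⁻¹ * y * g'⁻¹⁻¹ ∈ (S : Subgroup X) := by
    rw [inv_inv]; exact hB' y (Subgroup.subset_closure (by simp))
  obtain ⟨hxA, hyA⟩ := wrf_uniqA S D g'⁻¹ hx' hy'
  obtain ⟨h, hh⟩ : ∃ h : X, h = g'⁻¹ := ⟨_, rfl⟩
  rw [← hh] at hxA hyA
  have hσc := wrf_conj_inv S D hz h (wrC x n) x (2 ^ (n - 1)) D.cS D.c_sq D.c_ne D.c_ne_z hxA
    (WrData.wrC_eq_pow x n)
  have hσc' := wrf_conj_inv S D hz h (wrC y n) y (2 ^ (n - 1)) D.c'S D.c'_sq D.c'_ne D.c'_ne_z hyA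
    (WrData.wrC_eq_pow y n)
  have hσne : h * wrC x n * h⁻¹ ≠ h * wrC y n * h⁻¹ := by
    intro he
    exact D.c_ne_c' (mul_left_cancel (mul_right_cancel he))
  have hm : ∀ a b : X, h * (a * b) * h⁻¹ = (h * a * h⁻¹) * (h * b * h⁻¹) := by intros; group
  have hσuc : h * (x ^ i * y ^ i * c₁) * h⁻¹ = x ^ i * y ^ i := by
    rw [hh, ← hg']; group
  -- c₂ := h c₁ h⁻¹
  have hc₂ : h * c₁ * h⁻¹ = wrC x n ∨ h * c₁ * h⁻¹ = wrC y n := by
    rcases hc₁ with rfl | rfl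
    · exact hσc
    · exact hσc'
  have hc₂2 : (h * c₁ * h⁻¹) * (h * c₁ * h⁻¹) = 1 := by
    rw [← hm, hc₁2]; group
  have hσu : h * (x ^ i * y ^ i) * h⁻¹ = x ^ i * y ^ i * (h * c₁ * h⁻¹) := by
    have h1 := hm (x ^ i * y ^ i) c₁
    rw [hσuc] at h1
    calc h * (x ^ i * y ^ i) * h⁻¹
        = (h * (x ^ i * y ^ i) * h⁻¹) * ((h * c₁ * h⁻¹) * (h * c₁ * h⁻¹)) := by
          rw [hc₂2, mul_one]
      _ = ((h * (x ^ i * y ^ i) * h⁻¹) * (h * c₁ * h⁻¹)) * (h * c₁ * h⁻¹) := by group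
      _ = x ^ i * y ^ i * (h * c₁ * h⁻¹) := by rw [← h1]
  obtain ⟨c₂, hc₂def⟩ : ∃ c₂ : X, c₂ = h * c₁ * h⁻¹ := ⟨_, rfl⟩
  rw [← hc₂def] at hc₂ hc₂2 hσu
  have hc₂S : c₂ ∈ (S : Subgroup X) := by
    rcases hc₂ with rfl | rfl
    · exact D.cS
    · exact D.c'S
  have hT : ∀ a ∈ ({x ^ i * y ^ i, wrC x n, wrC y n} : Set X), a ∈ (S : Subgroup X) := by
    intro a ha
    rcases ha with rfl | rfl | rfl
    · exact huS
    · exact D.cS
    · exact D.c'S
  have hcl_c : wrC x n ∈ Subgroup.closure ({x ^ i * y ^ i, wrC x n, wrC y n} : Set X) :=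
    Subgroup.subset_closure (by simp)
  have hcl_c' : wrC y n ∈ Subgroup.closure ({x ^ i * y ^ i, wrC x n, wrC y n} : Set X) :=
    Subgroup.subset_closure (by simp)
  have hcl_u : x ^ i * y ^ i ∈ Subgroup.closure ({x ^ i * y ^ i, wrC x n, wrC y n} : Set X) :=
    Subgroup.subset_closure (by simp)
  have hcl_c₂ : c₂ ∈ Subgroup.closure ({x ^ i * y ^ i, wrC x n, wrC y n} : Set X) := by
    rcases hc₂ with rfl | rfl
    · exact hcl_c
    · exact hcl_c'
  have hnorm : ∀ a ∈ ({x ^ i * y ^ i, wrC x n, wrC y n} : Set X),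
      h * a * h⁻¹ ∈ Subgroup.closure ({x ^ i * y ^ i, wrC x n, wrC y n} : Set X) := by
    intro a ha
    rcases ha with rfl | rfl | rfl
    · rw [hσu]; exact mul_mem hcl_u hcl_c₂
    · rcases hσc with h1 | h1
      · rw [h1]; exact hcl_c
      · rw [h1]; exact hcl_c'
    · rcases hσc' with h1 | h1
      · rw [h1]; exact hcl_c
      · rw [h1]; exact hcl_c'
  have h4 : ∀ a : X, h ^ (2 ^ 2) * a * (h ^ (2 ^ 2))⁻¹ =
      h * (h * (h * (h * a * h⁻¹) * h⁻¹) * h⁻¹) * h⁻¹ := by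
    intro a
    have e : (2 : ℕ) ^ 2 = 4 := by norm_num
    have e4 : h ^ (2 ^ 2) = h * h * h * h := by
      rw [e, pow_succ, pow_succ, pow_succ, pow_one]
    rw [e4]
    simp only [mul_inv_rev, mul_assoc]
  have hcent : ∀ a ∈ ({x ^ i * y ^ i, wrC x n, wrC y n} : Set X),
      h ^ (2 ^ 2) * a * (h ^ (2 ^ 2))⁻¹ = a := by
    rcases hσc with h1 | h1 <;> rcases hσc' with h2 | h2
    · exact absurd (h1.trans h2.symm) hσne
    · -- both fixed
      have hσc₂ : h * c₂ * h⁻¹ = c₂ := by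
        rcases hc₂ with rfl | rfl
        · exact h1
        · exact h2
      have h2u : h * (h * (x ^ i * y ^ i) * h⁻¹) * h⁻¹ = x ^ i * y ^ i := by
        rw [hσu, hm, hσu, hσc₂, mul_assoc, hc₂2, mul_one]
      intro a ha
      rcases ha with rfl | rfl | rfl
      · rw [h4, h2u, h2u]
      · rw [h4, h1, h1, h1, h1]
      · rw [h4, h2, h2, h2, h2]
    · -- swapped
      have hσz : h * (wrC x n * wrC y n) * h⁻¹ = wrC x n * wrC y n := by
        rw [hm, h1, h2, ← D.cc'_comm]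
      have h2u : h * (h * (x ^ i * y ^ i) * h⁻¹) * h⁻¹ = x ^ i * y ^ i * (wrC x n * wrC y n) := by
        rw [hσu, hm, hσu]
        rcases hc₂ with rfl | rfl
        · rw [h1, mul_assoc]
        · rw [h2, mul_assoc, ← D.cc'_comm]
      have h4u : h * (h * (x ^ i * y ^ i * (wrC x n * wrC y n)) * h⁻¹) * h⁻¹ = x ^ i * y ^ i := by
        have e : h * (h * (x ^ i * y ^ i * (wrC x n * wrC y n)) * h⁻¹) * h⁻¹ =
            (h * (h * (x ^ i * y ^ i) * h⁻¹) * h⁻¹) *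
              (h * (h * (wrC x n * wrC y n) * h⁻¹) * h⁻¹) := by group
        rw [e, h2u, hσz, hσz, mul_assoc, D.z_sq, mul_one]
      intro a ha
      rcases ha with rfl | rfl | rfl
      · rw [h4, h2u, h4u]
      · rw [h4, h1, h2, h1, h2]
      · rw [h4, h2, h1, h2, h1]
    · exact absurd (h1.trans h2.symm) hσne
  obtain ⟨m, s, hsS, hmT, hconj⟩ := wrf_two_part S _ h 2 hT hnorm hcent
  have h1 := hconj (x ^ i * y ^ i) (by simp)
  rw [hσu] at h1
  have h2 : m⁻¹ * (x ^ i * y ^ i * c₂) * m = (m⁻¹ * (x ^ i * y ^ i) * m) * (m⁻¹ * c₂ * m) := by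
    group
  rw [h2] at h1
  have hτ2 : (m⁻¹ * c₂ * m) * (m⁻¹ * c₂ * m) = 1 := by
    calc (m⁻¹ * c₂ * m) * (m⁻¹ * c₂ * m) = m⁻¹ * (c₂ * c₂) * m := by group
      _ = 1 := by rw [hc₂2]; group
  rcases D.comm_inv _ s _ (hmT _ (by simp)) hsS h1 hτ2 with h3 | h3
  · have h5 : c₂ = 1 := by
      calc c₂ = m * (m⁻¹ * c₂ * m) * m⁻¹ := by group
        _ = 1 := by rw [h3]; group
    rcases hc₂ with h6 | h6
    · exact D.c_ne (h6.symm.trans h5)
    · exact D.c'_ne (h6.symm.trans h5)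
  · have h5 := wrf_NZ S D hz c₂ m hc₂S h3
    rcases hc₂ with h6 | h6
    · exact D.c_ne_z (h6.symm.trans h5)
    · exact D.c'_ne_z (h6.symm.trans h5)

/-- Case B: a central element `u` of `S` is not conjugate to `u τ` for an involution `τ`
outside the base group -/
theorem wrf_caseB (hz : IsIsolatedInvolution (wrC x n * wrC y n)) (i f : ℤ) (g : X)
    (hg : g * (x ^ i * y ^ i) * g⁻¹ = x ^ i * y ^ i * (x ^ f * t * x ^ (-f))) : False := by
  have hfact : Fact (Nat.Prime 2) := ⟨Nat.prime_two⟩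
  have huZ : ∀ s ∈ (S : Subgroup X), s * (x ^ i * y ^ i) = x ^ i * y ^ i * s :=
    fun s hs => D.diag_central i s hs
  have huS : x ^ i * y ^ i ∈ (S : Subgroup X) := mul_mem (zpow_mem D.hxS _) (zpow_mem D.hyS _)
  have hg₁ : (x ^ (-f) * g) * (x ^ i * y ^ i) * (x ^ (-f) * g)⁻¹ = x ^ i * y ^ i * t := by
    calc (x ^ (-f) * g) * (x ^ i * y ^ i) * (x ^ (-f) * g)⁻¹
        = x ^ (-f) * (g * (x ^ i * y ^ i) * g⁻¹) * (x ^ (-f))⁻¹ := by group
      _ = x ^ (-f) * (x ^ i * y ^ i * (x ^ f * t * x ^ (-f))) * (x ^ (-f))⁻¹ := by rw [hg]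
      _ = (x ^ (-f) * (x ^ i * y ^ i)) * (x ^ f * t * x ^ (-f)) * (x ^ (-f))⁻¹ := by group
      _ = (x ^ i * y ^ i * x ^ (-f)) * (x ^ f * t * x ^ (-f)) * (x ^ (-f))⁻¹ := by
          rw [huZ _ (zpow_mem D.hxS _)]
      _ = x ^ i * y ^ i * t := by rw [zpow_neg]; group
  have hBS : Subgroup.closure ({x ^ i * y ^ i, t} : Set X) ≤ (S : Subgroup X) := by
    rw [Subgroup.closure_le]
    intro b hb
    rcases hb with rfl | rfl
    · exact huS
    · exact D.htS
  have hBv : ∀ b ∈ Subgroup.closure ({x ^ i * y ^ i, t} : Set X),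
      b * (x ^ i * y ^ i * t) = x ^ i * y ^ i * t * b := by
    have hle : Subgroup.closure ({x ^ i * y ^ i, t} : Set X) ≤
        Subgroup.centralizer ({x ^ i * y ^ i * t} : Set X) := by
      rw [Subgroup.closure_le]
      intro b hb
      rw [SetLike.mem_coe, Subgroup.mem_centralizer_singleton_iff]
      rcases hb with hb | hb
      · rw [hb]
        calc x ^ i * y ^ i * (x ^ i * y ^ i * t) = x ^ i * y ^ i * ((x ^ i * y ^ i) * t) := by group
          _ = x ^ i * y ^ i * (t * (x ^ i * y ^ i)) := by rw [huZ t D.htS]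
          _ = x ^ i * y ^ i * t * (x ^ i * y ^ i) := by group
      · rw [Set.mem_singleton_iff] at hb
        rw [hb]
        calc t * (x ^ i * y ^ i * t) = (t * (x ^ i * y ^ i)) * t := by group
          _ = x ^ i * y ^ i * t * t := by rw [huZ t D.htS]
    intro b hb
    exact Subgroup.mem_centralizer_singleton_iff.1 (hle hb)
  obtain ⟨g', hg', hB'⟩ := wrf_lemA S _ _ _ huZ hg₁ _ (S.2.to_le hBS) hBv
  have ht''S : g'⁻¹ * t * g' ∈ (S : Subgroup X) := hB' t (Subgroup.subset_closure (by simp))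
  have hu''t'' : (g'⁻¹ * (x ^ i * y ^ i) * g') * (g'⁻¹ * t * g') = x ^ i * y ^ i := by
    calc (g'⁻¹ * (x ^ i * y ^ i) * g') * (g'⁻¹ * t * g') = g'⁻¹ * (x ^ i * y ^ i * t) * g' := by
          group
      _ = g'⁻¹ * (g' * (x ^ i * y ^ i) * g'⁻¹) * g' := by rw [hg']
      _ = x ^ i * y ^ i := by group
  have ht''2 : (g'⁻¹ * t * g') * (g'⁻¹ * t * g') = 1 := by
    calc (g'⁻¹ * t * g') * (g'⁻¹ * t * g') = g'⁻¹ * (t * t) * g' := by group
      _ = 1 := by rw [D.htt]; group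
  have hu'' : g'⁻¹ * (x ^ i * y ^ i) * g' = x ^ i * y ^ i * (g'⁻¹ * t * g') := by
    calc g'⁻¹ * (x ^ i * y ^ i) * g'
        = (g'⁻¹ * (x ^ i * y ^ i) * g') * ((g'⁻¹ * t * g') * (g'⁻¹ * t * g')) := by
          rw [ht''2, mul_one]
      _ = ((g'⁻¹ * (x ^ i * y ^ i) * g') * (g'⁻¹ * t * g')) * (g'⁻¹ * t * g') := by group
      _ = x ^ i * y ^ i * (g'⁻¹ * t * g') := by rw [hu''t'']
  rcases D.inv_class _ ht''S ht''2 with h1 | h1 | h1 | h1 | ⟨e, h1⟩
  · apply D.t_ne_one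
    calc t = g' * (g'⁻¹ * t * g') * g'⁻¹ := by group
      _ = 1 := by rw [h1]; group
  · refine wrf_caseA S D hz i _ (Or.inl rfl) g'⁻¹ ?_
    rw [inv_inv, hu'', h1]
  · refine wrf_caseA S D hz i _ (Or.inr rfl) g'⁻¹ ?_
    rw [inv_inv, hu'', h1]
  · exact D.t_ne_z (wrf_NZ S D hz t g' D.htS h1)
  · -- t'' = x^e t x^(-e)
    obtain ⟨k, hk⟩ : ∃ k : X, k = (g' * x ^ e)⁻¹ := ⟨_, rfl⟩
    have hkt : k * t * k⁻¹ = t := by
      calc k * t * k⁻¹ = (x ^ e)⁻¹ * (g'⁻¹ * t * g') * x ^ e := by rw [hk]; group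
        _ = (x ^ e)⁻¹ * (x ^ e * t * x ^ (-e)) * x ^ e := by rw [h1]
        _ = t := by rw [zpow_neg]; group
    have hku : k * (x ^ i * y ^ i) * k⁻¹ = x ^ i * y ^ i * t := by
      calc k * (x ^ i * y ^ i) * k⁻¹ = (x ^ e)⁻¹ * (g'⁻¹ * (x ^ i * y ^ i) * g') * x ^ e := by
            rw [hk]; group
        _ = (x ^ e)⁻¹ * (x ^ i * y ^ i * (x ^ e * t * x ^ (-e))) * x ^ e := by rw [hu'', h1]
        _ = ((x ^ e)⁻¹ * (x ^ i * y ^ i)) * (x ^ e * t * x ^ (-e)) * x ^ e := by group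
        _ = (x ^ i * y ^ i * (x ^ e)⁻¹) * (x ^ e * t * x ^ (-e)) * x ^ e := by
            rw [huZ _ (inv_mem (zpow_mem D.hxS _))]
        _ = x ^ i * y ^ i * t := by rw [zpow_neg]; group
    have hm : ∀ a b : X, k * (a * b) * k⁻¹ = (k * a * k⁻¹) * (k * b * k⁻¹) := by intros; group
    have hT : ∀ a ∈ ({x ^ i * y ^ i, t} : Set X), a ∈ (S : Subgroup X) := by
      intro a ha
      rcases ha with rfl | rfl
      · exact huS
      · exact D.htS
    have hcl_u : x ^ i * y ^ i ∈ Subgroup.closure ({x ^ i * y ^ i, t} : Set X) :=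
      Subgroup.subset_closure (by simp)
    have hcl_t : t ∈ Subgroup.closure ({x ^ i * y ^ i, t} : Set X) :=
      Subgroup.subset_closure (by simp)
    have hnorm : ∀ a ∈ ({x ^ i * y ^ i, t} : Set X),
        k * a * k⁻¹ ∈ Subgroup.closure ({x ^ i * y ^ i, t} : Set X) := by
      intro a ha
      rcases ha with ha | ha
      · rw [ha, hku]; exact mul_mem hcl_u hcl_t
      · rw [Set.mem_singleton_iff] at ha
        rw [ha, hkt]; exact hcl_t
    have h2 : ∀ a : X, k ^ (2 ^ 1) * a * (k ^ (2 ^ 1))⁻¹ = k * (k * a * k⁻¹) * k⁻¹ := by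
      intro a
      rw [pow_one, pow_two]
      simp only [mul_inv_rev, mul_assoc]
    have hcent : ∀ a ∈ ({x ^ i * y ^ i, t} : Set X), k ^ (2 ^ 1) * a * (k ^ (2 ^ 1))⁻¹ = a := by
      intro a ha
      rcases ha with ha | ha
      · rw [ha, h2, hku, hm, hku, hkt, mul_assoc, D.htt, mul_one]
      · rw [Set.mem_singleton_iff] at ha
        rw [ha, h2, hkt, hkt]
    obtain ⟨m, s, hsS, hmT, hconj⟩ := wrf_two_part S _ k 1 hT hnorm hcent
    have h3 := hconj (x ^ i * y ^ i) (by simp)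
    rw [hku] at h3
    have h4 : m⁻¹ * (x ^ i * y ^ i * t) * m = (m⁻¹ * (x ^ i * y ^ i) * m) * (m⁻¹ * t * m) := by
      group
    rw [h4] at h3
    have hτ2 : (m⁻¹ * t * m) * (m⁻¹ * t * m) = 1 := by
      calc (m⁻¹ * t * m) * (m⁻¹ * t * m) = m⁻¹ * (t * t) * m := by group
        _ = 1 := by rw [D.htt]; group
    rcases D.comm_inv _ s _ (hmT _ (by simp)) hsS h3 hτ2 with h5 | h5
    · apply D.t_ne_one
      calc t = m * (m⁻¹ * t * m) * m⁻¹ := by group
        _ = 1 := by rw [h5]; group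
    · exact D.t_ne_z (wrf_NZ S D hz t m D.htS h5)

/-- every element of `Z(S)` is weakly closed in `S` -/
theorem wrf_weak_closed (hz : IsIsolatedInvolution (wrC x n * wrC y n)) :
    ∀ (k : ℕ) (i : ℤ), (x ^ i * y ^ i) ^ (2 ^ k) = 1 → ∀ g : X,
      g * (x ^ i * y ^ i) * g⁻¹ ∈ (S : Subgroup X) →
      g * (x ^ i * y ^ i) * g⁻¹ = x ^ i * y ^ i := by
  intro k
  induction k with
  | zero =>
    intro i h g _
    rw [pow_zero, pow_one] at h
    rw [h]; group
  | succ k ih =>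
    intro i h g hgS
    have huS : x ^ i * y ^ i ∈ (S : Subgroup X) := mul_mem (zpow_mem D.hxS _) (zpow_mem D.hyS _)
    have huZ : ∀ s ∈ (S : Subgroup X), s * (x ^ i * y ^ i) = x ^ i * y ^ i * s :=
      fun s hs => D.diag_central i s hs
    have huu : (x ^ i * y ^ i) * (x ^ i * y ^ i) = x ^ (i + i) * y ^ (i + i) := D.amul i i i i
    have hsq : ∀ g' : X, g' * (x ^ i * y ^ i) * g'⁻¹ ∈ (S : Subgroup X) →
        (g' * (x ^ i * y ^ i) * g'⁻¹) * (g' * (x ^ i * y ^ i) * g'⁻¹) =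
          (x ^ i * y ^ i) * (x ^ i * y ^ i) := by
      intro g' hg'
      have h1 : (g' * (x ^ i * y ^ i) * g'⁻¹) * (g' * (x ^ i * y ^ i) * g'⁻¹) =
          g' * ((x ^ i * y ^ i) * (x ^ i * y ^ i)) * g'⁻¹ := by group
      rw [h1, huu]
      apply ih (i + i)
      · rw [← huu, ← pow_two, ← pow_mul, ← pow_succ']
        exact h
      · rw [← huu, ← h1]
        exact mul_mem hg' hg'
    have hα : ∀ g' : X, g' * (x ^ i * y ^ i) * g'⁻¹ ∈ (S : Subgroup X) →
        g' * (x ^ i * y ^ i) * g'⁻¹ = x ^ i * y ^ i ∨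
          g' * (x ^ i * y ^ i) * g'⁻¹ = x ^ i * y ^ i * (wrC x n * wrC y n) := by
      intro g' hg'
      obtain ⟨v, hv⟩ : ∃ v : X, v = g' * (x ^ i * y ^ i) * g'⁻¹ := ⟨_, rfl⟩
      rw [← hv] at hg' ⊢
      have hvv : v * v = (x ^ i * y ^ i) * (x ^ i * y ^ i) := by
        rw [hv]; exact hsq g' (hv ▸ hg')
      have hτS : (x ^ i * y ^ i)⁻¹ * v ∈ (S : Subgroup X) := mul_mem (inv_mem huS) hg'
      have hc := huZ _ hg'
      have hvu : v * (x ^ i * y ^ i)⁻¹ = (x ^ i * y ^ i)⁻¹ * v := by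
        calc v * (x ^ i * y ^ i)⁻¹
            = (x ^ i * y ^ i)⁻¹ * ((x ^ i * y ^ i) * v) * (x ^ i * y ^ i)⁻¹ := by group
          _ = (x ^ i * y ^ i)⁻¹ * (v * (x ^ i * y ^ i)) * (x ^ i * y ^ i)⁻¹ := by rw [hc]
          _ = (x ^ i * y ^ i)⁻¹ * v := by group
      have hτ2 : ((x ^ i * y ^ i)⁻¹ * v) * ((x ^ i * y ^ i)⁻¹ * v) = 1 := by
        calc ((x ^ i * y ^ i)⁻¹ * v) * ((x ^ i * y ^ i)⁻¹ * v)
            = (x ^ i * y ^ i)⁻¹ * (v * (x ^ i * y ^ i)⁻¹) * v := by group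
          _ = (x ^ i * y ^ i)⁻¹ * ((x ^ i * y ^ i)⁻¹ * v) * v := by rw [hvu]
          _ = (x ^ i * y ^ i)⁻¹ * (x ^ i * y ^ i)⁻¹ * (v * v) := by group
          _ = 1 := by rw [hvv]; group
      have hvτ : v = x ^ i * y ^ i * ((x ^ i * y ^ i)⁻¹ * v) := by group
      rcases D.inv_class _ hτS hτ2 with h1 | h1 | h1 | h1 | ⟨f, h1⟩
      · left; rw [hvτ, h1, mul_one]
      · exfalso
        refine wrf_caseA S D hz i _ (Or.inl rfl) g' ?_
        rw [← hv, ← h1]; exact hvτ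
      · exfalso
        refine wrf_caseA S D hz i _ (Or.inr rfl) g' ?_
        rw [← hv, ← h1]; exact hvτ
      · right; rw [← h1]; exact hvτ
      · exfalso
        refine wrf_caseB S D hz i f g' ?_
        rw [← hv, ← h1]; exact hvτ
    rcases hα g hgS with h1 | h1
    · exact h1
    · exfalso
      have hune : x ^ i * y ^ i ≠ 1 := by
        intro hu1
        rw [hu1] at h1
        apply D.z_ne_one
        rw [one_mul] at h1
        rw [← h1]; group
      obtain ⟨M, hM⟩ := D.diag_pow_z i hune (k + 1) h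
      have hgz : g * (wrC x n * wrC y n) * g⁻¹ = wrC x n * wrC y n := by
        have h2 : g * (wrC x n * wrC y n) * g⁻¹ = (g * (x ^ i * y ^ i) * g⁻¹) ^ M := by
          rw [conj_pow, hM]
        apply hz.2 g
        have h3 : g * (wrC x n * wrC y n) * g⁻¹ ∈ (S : Subgroup X) := by
          rw [h2]; exact pow_mem hgS M
        exact (D.z_central _ h3).symm
      have hm : ∀ a b : X, g * (a * b) * g⁻¹ = (g * a * g⁻¹) * (g * b * g⁻¹) := by intros; group
      have hT : ∀ a ∈ ({x ^ i * y ^ i, wrC x n * wrC y n} : Set X), a ∈ (S : Subgroup X) := by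
        intro a ha
        rcases ha with rfl | rfl
        · exact huS
        · exact D.zS
      have hcl_u : x ^ i * y ^ i ∈ Subgroup.closure ({x ^ i * y ^ i, wrC x n * wrC y n} : Set X) :=
        Subgroup.subset_closure (by simp)
      have hcl_z : wrC x n * wrC y n ∈
          Subgroup.closure ({x ^ i * y ^ i, wrC x n * wrC y n} : Set X) :=
        Subgroup.subset_closure (by simp)
      have hnorm : ∀ a ∈ ({x ^ i * y ^ i, wrC x n * wrC y n} : Set X),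
          g * a * g⁻¹ ∈ Subgroup.closure ({x ^ i * y ^ i, wrC x n * wrC y n} : Set X) := by
        intro a ha
        rcases ha with ha | ha
        · rw [ha, h1]; exact mul_mem hcl_u hcl_z
        · rw [Set.mem_singleton_iff] at ha
          rw [ha, hgz]; exact hcl_z
      have h2 : ∀ a : X, g ^ (2 ^ 1) * a * (g ^ (2 ^ 1))⁻¹ = g * (g * a * g⁻¹) * g⁻¹ := by
        intro a
        rw [pow_one, pow_two]
        simp only [mul_inv_rev, mul_assoc]
      have hcent : ∀ a ∈ ({x ^ i * y ^ i, wrC x n * wrC y n} : Set X),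
          g ^ (2 ^ 1) * a * (g ^ (2 ^ 1))⁻¹ = a := by
        intro a ha
        rcases ha with ha | ha
        · rw [ha, h2, h1, hm, h1, hgz, mul_assoc, D.z_sq, mul_one]
        · rw [Set.mem_singleton_iff] at ha
          rw [ha, h2, hgz, hgz]
      obtain ⟨m, s, hsS, hmT, hconj⟩ := wrf_two_part S _ g 1 hT hnorm hcent
      have h3 := hconj (x ^ i * y ^ i) (by simp)
      have h4 : m⁻¹ * (x ^ i * y ^ i) * m ∈ (S : Subgroup X) := hmT _ (by simp)
      have h5 : s * (m⁻¹ * (x ^ i * y ^ i) * m) * s⁻¹ = m⁻¹ * (x ^ i * y ^ i) * m := by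
        have h6 := hα m⁻¹ (by rw [inv_inv]; exact h4)
        rw [inv_inv] at h6
        rcases h6 with h6 | h6
        · rw [h6, huZ s hsS]; group
        · rw [h6]
          have h7 : s * (x ^ i * y ^ i * (wrC x n * wrC y n)) =
              x ^ i * y ^ i * (wrC x n * wrC y n) * s := by
            calc s * (x ^ i * y ^ i * (wrC x n * wrC y n))
                = (s * (x ^ i * y ^ i)) * (wrC x n * wrC y n) := by group
              _ = x ^ i * y ^ i * (s * (wrC x n * wrC y n)) := by rw [huZ s hsS]; group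
              _ = x ^ i * y ^ i * (wrC x n * wrC y n) * s := by rw [D.z_central s hsS]; group
          rw [h7]; group
      rw [h5, h1] at h3
      apply D.z_ne_one
      have h8 : x ^ i * y ^ i = x ^ i * y ^ i * (wrC x n * wrC y n) := by
        calc x ^ i * y ^ i = m * (m⁻¹ * (x ^ i * y ^ i) * m) * m⁻¹ := by group
          _ = m * (m⁻¹ * (x ^ i * y ^ i * (wrC x n * wrC y n)) * m) * m⁻¹ := by rw [h3]
          _ = x ^ i * y ^ i * (wrC x n * wrC y n) := by group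
      have h9 : x ^ i * y ^ i * 1 = x ^ i * y ^ i * (wrC x n * wrC y n) := by
        rw [mul_one]; exact h8
      exact (mul_left_cancel h9).symm

/-- the centre of a wreathed Sylow 2-subgroup with an isolated involution is central modulo the
odd core -/
theorem wrf_main (hz : IsIsolatedInvolution (wrC x n * wrC y n)) (w : X)
    (hw : w ∈ (S : Subgroup X)) (hwc : ∀ s ∈ (S : Subgroup X), s * w = w * s) :
    ∀ g : X, w * g * w⁻¹ * g⁻¹ ∈ Cfsg.oddCore X := by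
  obtain ⟨i, rfl⟩ := D.central_form w hw hwc
  apply zstar_wc S _ hw
  intro j g hg
  rw [D.diag_pow] at hg ⊢
  have hS2 := S.2
  obtain ⟨K, hK⟩ := hS2 ⟨x ^ (i * (j : ℤ)) * y ^ (i * (j : ℤ)),
    mul_mem (zpow_mem D.hxS _) (zpow_mem D.hyS _)⟩
  have hK' : (x ^ (i * (j : ℤ)) * y ^ (i * (j : ℤ))) ^ (2 ^ K) = 1 := congrArg Subtype.val hK
  exact wrf_weak_closed S D hz K _ hK' g hg

end wreathed

end Cfsg.Agent.Helper8
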