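import Mathlib
import Cfsg.Agent.Helper8.WrFusion

set_option autoImplicit false

namespace Cfsg.Agent.Helper8

open Cfsg

/-- the wreathed data of a group satisfying `IsWreathed` -/
theorem wrf_data {X : Type*} [Group X] [Finite X] (S : Subgroup X) (hS : Cfsg.IsWreathed ↥S) :
    ∃ (x y t : X) (n : ℕ), WrData S x y t n := by
  obtain ⟨n, hn, hcard, x, y, t, hx, hxy, hdisj, ht, htx⟩ := hS
  have hy : orderOf y = 2 ^ n := by
    rw [← htx, ← hx]
    exact (MulAut.conj t).orderOf_eq x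
  have htt : t * t = 1 := by rw [← pow_two, ← ht, pow_orderOf_eq_one]
  have hcomm : ∀ (a : ↥(Subgroup.zpowers x)) (b : ↥(Subgroup.zpowers y)),
      Commute ((Subgroup.zpowers x).subtype a) ((Subgroup.zpowers y).subtype b) := by
    intro a b
    obtain ⟨i, hi⟩ := Subgroup.mem_zpowers_iff.1 a.2
    obtain ⟨j, hj⟩ := Subgroup.mem_zpowers_iff.1 b.2
    show Commute (a : ↥S) (b : ↥S)
    rw [← hi, ← hj]
    exact (show Commute x y from hxy).zpow_zpow i j
  have hinj : Function.Injective (MonoidHom.noncommCoprod (Subgroup.zpowers x).subtype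
      (Subgroup.zpowers y).subtype hcomm) := by
    rw [MonoidHom.noncommCoprod_injective]
    refine ⟨Subgroup.subtype_injective _, Subgroup.subtype_injective _, ?_⟩
    rw [Subgroup.range_subtype, Subgroup.range_subtype, disjoint_iff]
    exact hdisj
  obtain ⟨A, hA⟩ : ∃ A : Subgroup ↥S, A = (MonoidHom.noncommCoprod (Subgroup.zpowers x).subtype
      (Subgroup.zpowers y).subtype hcomm).range := ⟨_, rfl⟩
  have hAmem : ∀ s : ↥S, s ∈ A ↔ ∃ i j : ℤ, s = x ^ i * y ^ j := by
    intro s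
    rw [hA, MonoidHom.mem_range]
    constructor
    · rintro ⟨⟨a, b⟩, hab⟩
      obtain ⟨i, hi⟩ := Subgroup.mem_zpowers_iff.1 a.2
      obtain ⟨j, hj⟩ := Subgroup.mem_zpowers_iff.1 b.2
      refine ⟨i, j, ?_⟩
      rw [← hab, hi, hj]
      rfl
    · rintro ⟨i, j, rfl⟩
      exact ⟨(⟨x ^ i, Subgroup.zpow_mem_zpowers x i⟩, ⟨y ^ j, Subgroup.zpow_mem_zpowers y j⟩), rfl⟩
  have hAcard : Nat.card A = 2 ^ n * 2 ^ n := by
    rw [hA, Nat.card_congr (MonoidHom.ofInjective hinj).toEquiv.symm, Nat.card_prod,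
      Nat.card_zpowers, Nat.card_zpowers, hx, hy]
  have hAidx : A.index = 2 := by
    have h1 := Subgroup.card_mul_index A
    rw [hAcard, hcard] at h1
    have h2 : 2 ^ (2 * n + 1) = 2 ^ n * 2 ^ n * 2 := by ring
    rw [h2] at h1
    exact Nat.eq_of_mul_eq_mul_left (by positivity) h1
  have hx1 : x ≠ 1 := by
    intro h
    rw [h, orderOf_one] at hx
    have h2 : 2 ^ 2 ≤ 2 ^ n := Nat.pow_le_pow_right (by norm_num) hn
    omega
  have htA : t ∉ A := by
    intro h
    obtain ⟨i, j, hij⟩ := (hAmem t).1 h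
    have h1 : t * x = x * t := by
      rw [hij]
      have hc1 : Commute (x ^ i) x := (Commute.refl x).zpow_left i
      have hc2 : Commute (y ^ j) x := (show Commute y x from hxy.symm).zpow_left j
      exact (hc1.mul_left hc2).eq
    have h2 : y = x := by
      rw [← htx, h1]; group
    have h3 : x ∈ Subgroup.zpowers x ⊓ Subgroup.zpowers y := by
      refine ⟨Subgroup.mem_zpowers x, ?_⟩
      rw [h2]; exact Subgroup.mem_zpowers x
    rw [hdisj, Subgroup.mem_bot] at h3
    exact hx1 h3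
  refine ⟨x, y, t, n, ⟨hn, x.2, y.2, t.2, ?_, ?_, ?_, ?_, ?_, ?_⟩⟩
  · rw [Subgroup.orderOf_coe]; exact hx
  · exact congrArg Subtype.val hxy
  · intro i j hij
    have h1 : x ^ i = y ^ j := Subtype.ext (by push_cast; exact hij)
    have h2 : x ^ i ∈ Subgroup.zpowers x ⊓ Subgroup.zpowers y := by
      refine ⟨Subgroup.zpow_mem_zpowers x i, ?_⟩
      rw [h1]; exact Subgroup.zpow_mem_zpowers y j
    rw [hdisj, Subgroup.mem_bot] at h2
    have h3 := congrArg Subtype.val h2
    push_cast at h3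
    exact h3
  · exact congrArg Subtype.val htt
  · have h1 : t * x = y * t := by rw [← htx]; group
    exact congrArg Subtype.val h1
  · intro s hs
    by_cases hsA : (⟨s, hs⟩ : ↥S) ∈ A
    · obtain ⟨i, j, hij⟩ := (hAmem _).1 hsA
      refine ⟨i, j, Or.inl ?_⟩
      have h3 := congrArg Subtype.val hij
      push_cast at h3
      exact h3
    · have h1 : (⟨s, hs⟩ : ↥S) * t ∈ A := by
        rw [Subgroup.mul_mem_iff_of_index_two hAidx]
        exact ⟨fun h => absurd h hsA, fun h => absurd h htA⟩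
      obtain ⟨i, j, hij⟩ := (hAmem _).1 h1
      refine ⟨i, j, Or.inr ?_⟩
      have h3 := congrArg Subtype.val hij
      push_cast at h3
      have h4 : (t : X) * (t : X) = 1 := congrArg Subtype.val htt
      calc s = (s * (t : X)) * (t : X) := by rw [mul_assoc, h4, mul_one]
        _ = (x : X) ^ i * (y : X) ^ j * (t : X) := by rw [h3]

/-- the centre of a quasi-dihedral group has at most two elements -/
theorem wrf_qd_center {Q : Type*} [Group Q] [Finite Q] (n : ℕ) (hn : 3 ≤ n)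
    (hcard : Nat.card Q = 2 ^ (n + 1)) (x y : Q) (hx : orderOf x = 2 ^ n)
    (hyx : y * x * y⁻¹ = x ^ (2 ^ (n - 1) - 1)) (w : Q) (hw : ∀ g : Q, g * w = w * g) :
    w = 1 ∨ w = x ^ (2 ^ (n - 1)) := by
  obtain ⟨m, rfl⟩ : ∃ m, n = m + 3 := ⟨n - 3, by omega⟩
  have e1 : m + 3 - 1 = m + 2 := by omega
  rw [e1] at hyx ⊢
  have hidx : (Subgroup.zpowers x).index = 2 := by
    have h1 := Subgroup.card_mul_index (Subgroup.zpowers x)
    rw [Nat.card_zpowers, hx, hcard, pow_succ] at h1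
    exact Nat.eq_of_mul_eq_mul_left (by positivity) h1
  have hpos : 2 ≤ 2 ^ (m + 2) - 1 := by
    have : 2 ^ 2 ≤ 2 ^ (m + 2) := Nat.pow_le_pow_right (by norm_num) (by omega)
    omega
  -- y does not commute with x
  have hnc : y * x ≠ x * y := by
    intro h
    have h1 : y * x * y⁻¹ = x := by rw [h]; group
    rw [hyx] at h1
    have h2 : x ^ (2 ^ (m + 2) - 2) = 1 := by
      have h3 : x ^ (2 ^ (m + 2) - 1) = x ^ (2 ^ (m + 2) - 2) * x := by
        rw [← pow_succ]; congr 1; omega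
      rw [h3] at h1
      exact mul_right_cancel (h1.trans (one_mul x).symm)
    have h4 := orderOf_dvd_of_pow_eq_one h2
    rw [hx] at h4
    have h5 := Nat.le_of_dvd (by omega) h4
    have h6 : 2 ^ (m + 3) = 2 * 2 ^ (m + 2) := by rw [pow_succ]; ring
    omega
  have hyA : y ∉ Subgroup.zpowers x := by
    intro h
    obtain ⟨i, hi⟩ := Subgroup.mem_zpowers_iff.1 h
    apply hnc
    rw [← hi]
    exact ((Commute.refl x).zpow_left i).eq
  have hwA : w ∈ Subgroup.zpowers x := by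
    by_contra h
    have h1 : w * y ∈ Subgroup.zpowers x := by
      rw [Subgroup.mul_mem_iff_of_index_two hidx]
      exact ⟨fun h' => absurd h' h, fun h' => absurd h' hyA⟩
    obtain ⟨i, hi⟩ := Subgroup.mem_zpowers_iff.1 h1
    apply hnc
    -- w y commutes with x and w is central, so y commutes with x
    have h2 : (w * y) * x = x * (w * y) := by
      rw [← hi]; exact ((Commute.refl x).zpow_left i).eq
    have h3 := hw x
    calc y * x = w⁻¹ * ((w * y) * x) := by group
      _ = w⁻¹ * (x * (w * y)) := by rw [h2]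
      _ = w⁻¹ * ((x * w) * y) := by group
      _ = w⁻¹ * ((w * x) * y) := by rw [h3]
      _ = x * y := by group
  obtain ⟨i, hi⟩ := Subgroup.mem_zpowers_iff.1 hwA
  -- y w y⁻¹ = w gives the divisibility
  have h1 : y * w * y⁻¹ = w := by rw [hw y]; group
  rw [← hi, ← conj_zpow, hyx, ← zpow_natCast, ← zpow_mul] at h1
  have h2 : x ^ (((2 ^ (m + 2) - 1 : ℕ) : ℤ) * i - i) = 1 := by
    rw [zpow_sub, h1, mul_inv_cancel]
  have h3 := (orderOf_dvd_iff_zpow_eq_one).2 h2
  rw [hx] at h3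
  have hcast : ((2 ^ (m + 2) - 1 : ℕ) : ℤ) = 2 ^ (m + 2) - 1 := by
    rw [Nat.cast_sub (Nat.one_le_two_pow)]; push_cast; ring
  rw [hcast] at h3
  have h4 : ((2 : ℤ) ^ (m + 2)) ∣ (2 ^ (m + 1) - 1) * i := by
    obtain ⟨q, hq⟩ := h3
    refine ⟨q, ?_⟩
    push_cast at hq
    have h5 : 2 * ((2 ^ (m + 1) - 1) * i) = 2 * (2 ^ (m + 2) * q) := by
      have e2 : (2 : ℤ) ^ (m + 3) = 2 * 2 ^ (m + 2) := by rw [pow_succ]; ring
      have e3 : (2 : ℤ) ^ (m + 2) = 2 * 2 ^ (m + 1) := by rw [pow_succ]; ring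
      rw [e2] at hq
      rw [e3] at hq ⊢
      linear_combination hq
    exact mul_left_cancel₀ (by norm_num) h5
  have hcop : IsCoprime ((2 : ℤ) ^ (m + 2)) (2 ^ (m + 1) - 1) := by
    apply IsCoprime.pow_left
    refine ⟨2 ^ m, -1, ?_⟩
    rw [pow_succ]; ring
  have h6 : ((2 : ℤ) ^ (m + 2)) ∣ i := hcop.dvd_of_dvd_mul_left h4
  obtain ⟨q, rfl⟩ := h6
  have hsq : x ^ (2 ^ (m + 2)) * x ^ (2 ^ (m + 2)) = 1 := by
    rw [← pow_add, ← two_mul, ← pow_succ', ← hx, pow_orderOf_eq_one]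
  have hcast2 : ((2 : ℤ) ^ (m + 2)) = ((2 ^ (m + 2) : ℕ) : ℤ) := by push_cast; rfl
  rw [← hi, hcast2, zpow_mul, zpow_natCast]
  rcases Int.even_or_odd' q with ⟨r, rfl | rfl⟩
  · left; rw [zpow_mul, zpow_two, hsq, one_zpow]
  · right; rw [zpow_add, zpow_mul, zpow_two, hsq, one_zpow, one_mul, zpow_one]

/-- an isolated involution of a Sylow 2-subgroup is central in it and central modulo the odd
core -/
theorem wrf_zcentral.{u} {X : Type u} [Group X] [Finite X] (S : Sylow 2 X) (z : X)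
    (hzS : z ∈ (S : Subgroup X)) (hz : IsIsolatedInvolution z) :
    (∀ s ∈ (S : Subgroup X), s * z = z * s) ∧ ∀ g : X, z * g * z⁻¹ * g⁻¹ ∈ Cfsg.oddCore X := by
  obtain ⟨N, hN, hNodd, hcomm⟩ := zstar_main X z hz
  constructor
  · intro s hs
    have h1 : z * s * z⁻¹ * s⁻¹ ∈ (S : Subgroup X) :=
      mul_mem (mul_mem (mul_mem hzS hs) (inv_mem hzS)) (inv_mem hs)
    obtain ⟨k, hk⟩ := S.2 ⟨_, h1⟩
    have hk' : (z * s * z⁻¹ * s⁻¹) ^ (2 ^ k) = 1 := congrArg Subtype.val hk
    have h2 := zg_two_odd N hNodd ⟨k, hk'⟩ (hcomm s)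
    calc s * z = (z * s * z⁻¹ * s⁻¹)⁻¹ * (z * s) := by group
      _ = z * s := by rw [h2]; group
  · intro g
    have hle : N ≤ Cfsg.oddCore X := le_sSup ⟨hN, Nat.coprime_two_right.2 hNodd⟩
    exact hle (hcomm g)

/-- quasi-dihedral or wreathed Sylow 2-subgroup with an isolated involution: `O(X) Z(S)` is
normal -/
theorem wrf_S1239.{u} {X : Type u} [Group X] [Finite X] (S : Sylow 2 X)
    (hS : Cfsg.IsQuasiDihedral (S : Subgroup X) ∨ Cfsg.IsWreathed (S : Subgroup X)) (z : X)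
    (hzS : z ∈ S) (hz : Cfsg.IsIsolatedInvolution z) :
    (Cfsg.oddCore X ⊔ (Subgroup.center (S : Subgroup X)).map (S : Subgroup X).subtype).Normal := by
  obtain ⟨hzc, hzO⟩ := wrf_zcentral S z hzS hz
  have hz1 : z ≠ 1 := by
    intro h
    have h2 := hz.1
    rw [h, orderOf_one] at h2
    omega
  have hzz : z * z = 1 := Cfsg.Agent.Helper2.zstar_sq z hz.1
  have key : ∀ w ∈ (Subgroup.center (S : Subgroup X)).map (S : Subgroup X).subtype, ∀ g : X,
      w * g * w⁻¹ * g⁻¹ ∈ Cfsg.oddCore X := by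
    rintro _ ⟨w, hw, rfl⟩ g
    have hwc : ∀ s ∈ (S : Subgroup X), s * (w : X) = (w : X) * s := by
      intro s hs
      have h1 := Subgroup.mem_center_iff.1 hw ⟨s, hs⟩
      exact congrArg Subtype.val h1
    rcases hS with hQD | hWR
    · obtain ⟨n, hn, hcard, x, y, hx, hy, hyx⟩ := hQD
      have hwQ := wrf_qd_center n hn hcard x y hx hyx w (fun g => Subgroup.mem_center_iff.1 hw g)
      have hzQ := wrf_qd_center n hn hcard x y hx hyx ⟨z, hzS⟩
        (fun g => Subtype.ext (hzc g g.2))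
      have hzQ' : (⟨z, hzS⟩ : ↥(S : Subgroup X)) = x ^ (2 ^ (n - 1)) := by
        rcases hzQ with h | h
        · exact absurd (congrArg Subtype.val h) hz1
        · exact h
      rcases hwQ with h | h
      · rw [h]
        simp
      · rw [h, ← hzQ']
        exact hzO g
    · obtain ⟨x, y, t, n, D⟩ := wrf_data (S : Subgroup X) hWR
      obtain ⟨i, hi⟩ := D.central_form z hzS hzc
      have hzd : z = wrC x n * wrC y n := by
        rw [hi] at hzz hz1 ⊢
        rcases D.diag_sq i hzz with h | h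
        · exact absurd h hz1
        · exact h
      have hz' : IsIsolatedInvolution (wrC x n * wrC y n) := by rw [← hzd]; exact hz
      exact wrf_main S D hz' (w : X) w.2 hwc g
  refine ⟨fun a ha g => ?_⟩
  have hle : (Cfsg.oddCore X ⊔
      (Subgroup.center (S : Subgroup X)).map (S : Subgroup X).subtype).map
        (MulAut.conj g).toMonoidHom ≤
      Cfsg.oddCore X ⊔ (Subgroup.center (S : Subgroup X)).map (S : Subgroup X).subtype := by
    rw [Subgroup.map_sup]
    apply sup_le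
    · rintro _ ⟨o, ho, rfl⟩
      exact Subgroup.mem_sup_left ((inferInstance : (Cfsg.oddCore X).Normal).conj_mem o ho g)
    · rintro _ ⟨w, hw, rfl⟩
      have h1 := key w hw g⁻¹
      rw [inv_inv] at h1
      have h2 : g * w * g⁻¹ * w⁻¹ ∈ Cfsg.oddCore X := by
        have h3 := (inferInstance : (Cfsg.oddCore X).Normal).conj_mem _ h1 g
        have h4 : g * (w * g⁻¹ * w⁻¹ * g) * g⁻¹ = g * w * g⁻¹ * w⁻¹ := by group
        rwa [h4] at h3
      show g * w * g⁻¹ ∈ _
      have h5 : g * w * g⁻¹ = (g * w * g⁻¹ * w⁻¹) * w := by group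
      rw [h5]
      exact mul_mem (Subgroup.mem_sup_left h2) (Subgroup.mem_sup_right hw)
  exact hle ⟨a, ha, rfl⟩

end Cfsg.Agent.Helper8
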